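import Groth.Agent.H7Flat.GeomInt.Scheme
import Groth.Agent.H7Flat.GeomCount
import Groth.Agent.H7Flat.GenericGeomNotReduced
import Mathlib.AlgebraicGeometry.Geometrically.Irreducible
import Mathlib.AlgebraicGeometry.Geometrically.Connected
import Mathlib.FieldTheory.SeparableClosure

/-!
# The geometric numbers of components are constant near a point of a closure
-/

set_option autoImplicit false
set_option linter.style.haveILetI false
set_option backward.isDefEq.respectTransparency false

universe u

open CategoryTheory CategoryTheory.Limits AlgebraicGeometry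

namespace Groth.Agent.H7Flat.GeomInt

theorem encard_eq_of_mk_eq {α β : Type u} (h : Cardinal.mk α = Cardinal.mk β) :
    ENat.card α = ENat.card β := by
  obtain ⟨e⟩ := Cardinal.eq.1 h
  exact ENat.card_congr e

theorem encard_irreducibleComponents_congr {A B : Type u} [TopologicalSpace A] [TopologicalSpace B]
    (e : A ≃ₜ B) : (irreducibleComponents A).encard = (irreducibleComponents B).encard :=
  encard_eq_of_mk_eq (GeomCount.mk_irreducibleComponents_congr e).symm

theorem card_connectedComponents_congr {A B : Type u} [TopologicalSpace A] [TopologicalSpace B]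
    (e : A ≃ₜ B) : ENat.card (_root_.ConnectedComponents A) = ENat.card (_root_.ConnectedComponents B) :=
  encard_eq_of_mk_eq (GeomCount.mk_connectedComponents_congr e)

/-- Every separably closed point computes the geometric numbers of components. -/
theorem nGeom_eq {X Y : Scheme.{u}} (f : X ⟶ Y) {k : Type u} [Field k] [IsSepClosed k]
    (a : Spec (CommRingCat.of k) ⟶ Y) {y : Y} (ha : a (IsLocalRing.closedPoint k) = y) :
    (irreducibleComponents ↥(pullback f a)).encard = MoreMor.nGeomIrredComp f y ∧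
      ENat.card (_root_.ConnectedComponents ↥(pullback f a)) = MoreMor.nGeomConnComp f y := by
  obtain ⟨⟨z, θ⟩, rfl⟩ := (Scheme.SpecToEquivOfField k Y).symm.surjective a
  have ha' : (Spec.map θ ≫ Y.fromSpecResidueField z) (IsLocalRing.closedPoint k) = y := ha
  rw [Scheme.Hom.comp_apply, Scheme.fromSpecResidueField_apply] at ha'
  subst ha'
  letI : Algebra ↑(Y.residueField z) k := θ.hom.toAlgebra
  let g := f.fiberToSpecResidueField z
  let e : FBase.bc (k := ↑(Y.residueField z)) g k ≅ pullback f (Spec.map θ ≫ Y.fromSpecResidueField z) :=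
    pullbackLeftPullbackSndIso f (Y.fromSpecResidueField z) (Spec.map θ)
  constructor
  · exact (encard_irreducibleComponents_congr e.hom.homeomorph).symm.trans
      (encard_eq_of_mk_eq (GeomCount.mk_irreducibleComponents_eq (k := ↑(Y.residueField z)) g k (SeparableClosure (Y.residueField z))))
  · exact (card_connectedComponents_congr e.hom.homeomorph).symm.trans
      (encard_eq_of_mk_eq (GeomCount.mk_connectedComponents_eq (k := ↑(Y.residueField z)) g k (SeparableClosure (Y.residueField z))))

theorem exists_algClosed_point {S : Type u} [CommRing S] (Q : Ideal S) [Q.IsPrime] :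
    ∃ (k : Type u) (_ : Field k) (_ : IsAlgClosed k) (_ : Algebra S k), RingHom.ker (algebraMap S k) = Q := by
  refine ⟨AlgebraicClosure Q.ResidueField, inferInstance, inferInstance,
    ((algebraMap Q.ResidueField (AlgebraicClosure Q.ResidueField)).comp (algebraMap S Q.ResidueField)).toAlgebra, ?_⟩
  show RingHom.ker ((algebraMap Q.ResidueField (AlgebraicClosure Q.ResidueField)).comp (algebraMap S Q.ResidueField)) = Q
  rw [← RingHom.comap_ker, (RingHom.injective_iff_ker_eq_bot _).1
      (algebraMap Q.ResidueField (AlgebraicClosure Q.ResidueField)).injective,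
    ← RingHom.ker_eq_comap_bot, Ideal.ker_algebraMap_residueField]

set_option maxHeartbeats 800000 in
/-- Both numbers are constant near `y` on the closure of `y`. -/
theorem exists_opens_counts {X Y : Scheme.{u}} (f : X ⟶ Y) [LocallyOfFiniteType f] [QuasiCompact f] (y : Y) :
    ∃ O : Y.Opens, y ∈ O ∧ ∀ y' ∈ O, y ⤳ y' →
      MoreMor.nGeomIrredComp f y' = MoreMor.nGeomIrredComp f y ∧
        MoreMor.nGeomConnComp f y' = MoreMor.nGeomConnComp f y := by
  obtain ⟨V, hV, hy, -⟩ := exists_isAffineOpen_mem_and_subset (U := (⊤ : Y.Opens)) (x := y) trivial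
  let p := (hV.primeIdealOf ⟨y, hy⟩).asIdeal
  haveI : p.IsPrime := (hV.primeIdealOf ⟨y, hy⟩).isPrime
  let K₀ := FractionRing (Γ(Y, V) ⧸ p)
  let Ω := AlgebraicClosure K₀
  let Rb := integralClosure (Γ(Y, V) ⧸ p) Ω
  haveI : Algebra.IsAlgebraic (Γ(Y, V) ⧸ p) Ω := IsFractionRing.comap_isAlgebraic_iff.mpr
    (inferInstance : Algebra.IsAlgebraic K₀ Ω)
  haveI : IsFractionRing Rb Ω := integralClosure.isFractionRing_of_algebraic fun z hz => by
    rw [IsScalarTower.algebraMap_apply (Γ(Y, V) ⧸ p) K₀ Ω, map_eq_zero] at hz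
    exact IsFractionRing.to_map_eq_zero_iff.1 hz
  have hinj : Function.Injective (algebraMap (Γ(Y, V) ⧸ p) Rb) := fun a b hab => by
    have := congrArg (algebraMap Rb Ω) hab
    rw [← IsScalarTower.algebraMap_apply, ← IsScalarTower.algebraMap_apply,
      IsScalarTower.algebraMap_apply (Γ(Y, V) ⧸ p) K₀ Ω, IsScalarTower.algebraMap_apply (Γ(Y, V) ⧸ p) K₀ Ω] at this
    exact IsFractionRing.injective _ _ ((algebraMap K₀ Ω).injective this)
  let a₀ : Γ(Y, V) ⟶ CommRingCat.of Rb :=
    CommRingCat.ofHom ((algebraMap (Γ(Y, V) ⧸ p) Rb).comp (Ideal.Quotient.mk p))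
  let π := Spec.map a₀ ≫ hV.fromSpec
  obtain ⟨r, hr, hcount⟩ := exists_counts (R := Rb) Ω (pullback.snd f π)
  -- a nonzero element of the base in `(r)`
  obtain ⟨c, hc0, hc⟩ : ∃ c : Γ(Y, V) ⧸ p, c ≠ 0 ∧ r ∣ algebraMap (Γ(Y, V) ⧸ p) Rb c := by
    have hI : (Ideal.span {r}).comap (algebraMap (Γ(Y, V) ⧸ p) Rb) ≠ ⊥ :=
      Ideal.comap_ne_bot_of_integral_mem hr (Ideal.mem_span_singleton_self r) (Algebra.IsIntegral.isIntegral r)
    obtain ⟨c, hc, hc0⟩ := Submodule.exists_mem_ne_zero_of_ne_bot hI
    exact ⟨c, hc0, Ideal.mem_span_singleton.1 hc⟩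
  obtain ⟨c, rfl⟩ := Ideal.Quotient.mk_surjective c
  have hcp : c ∉ p := fun h => hc0 (Ideal.Quotient.eq_zero_iff_mem.2 h)
  let O₀ : TopologicalSpace.Opens ↥(Spec Γ(Y, V)) := PrimeSpectrum.basicOpen c
  refine ⟨⟨hV.fromSpec '' (O₀ : Set _), hV.fromSpec.isOpenEmbedding.isOpenMap _ O₀.2⟩,
    ⟨_, hcp, hV.fromSpec_primeIdealOf ⟨y, hy⟩⟩, ?_⟩
  -- both counts at a point are computed upstairs
  have key : ∀ (k : Type u) [Field k] [IsSepClosed k] [Algebra Rb k] (z : Y),
      π (Spec.map (CommRingCat.ofHom (algebraMap Rb k)) (IsLocalRing.closedPoint k)) = z →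
      (irreducibleComponents ↥(pullback (pullback.snd f π) (Spec.map (CommRingCat.ofHom (algebraMap Rb k))))).encard
          = MoreMor.nGeomIrredComp f z ∧
        ENat.card (_root_.ConnectedComponents
          ↥(pullback (pullback.snd f π) (Spec.map (CommRingCat.ofHom (algebraMap Rb k))))) =
          MoreMor.nGeomConnComp f z := by
    intro k _ _ _ z hz
    let e := pullbackLeftPullbackSndIso f π (Spec.map (CommRingCat.ofHom (algebraMap Rb k)))
    obtain ⟨h1, h2⟩ := nGeom_eq f (Spec.map (CommRingCat.ofHom (algebraMap Rb k)) ≫ π) (y := z)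
      (by rw [Scheme.Hom.comp_apply]; exact hz)
    exact ⟨(encard_irreducibleComponents_congr e.hom.homeomorph).trans h1,
      (card_connectedComponents_congr e.hom.homeomorph).trans h2⟩
  have hyΩ : π (Spec.map (CommRingCat.ofHom (algebraMap Rb Ω)) (IsLocalRing.closedPoint Ω)) = y := by
    refine Eq.trans ?_ (hV.fromSpec_primeIdealOf ⟨y, hy⟩)
    rw [Scheme.Hom.comp_apply]
    refine congrArg hV.fromSpec (PrimeSpectrum.ext ?_)
    show (((IsLocalRing.maximalIdeal Ω).comap (algebraMap Rb Ω)).comap a₀.hom) = p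
    rw [IsLocalRing.maximalIdeal_eq_bot, ← RingHom.ker_eq_comap_bot,
      (RingHom.injective_iff_ker_eq_bot _).1 (IsFractionRing.injective Rb Ω)]
    ext x
    show algebraMap (Γ(Y, V) ⧸ p) Rb (Ideal.Quotient.mk p x) = 0 ↔ x ∈ p
    rw [map_eq_zero_iff _ hinj, Ideal.Quotient.eq_zero_iff_mem]
  obtain ⟨hyI, hyC⟩ := key Ω y hyΩ
  rintro _ ⟨q, hq, rfl⟩ hsp
  have hpq : p ≤ q.asIdeal := by
    refine (PrimeSpectrum.le_iff_specializes (hV.primeIdealOf ⟨y, hy⟩) q).2 ?_
    refine hV.fromSpec.isEmbedding.specializes_iff.1 ?_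
    exact (specializes_of_eq (hV.fromSpec_primeIdealOf ⟨y, hy⟩)).trans hsp
  haveI : (q.asIdeal.map (Ideal.Quotient.mk p)).IsPrime :=
    Ideal.map_isPrime_of_surjective Ideal.Quotient.mk_surjective (by rwa [Ideal.mk_ker])
  obtain ⟨Q, hQ, hQq⟩ := Ideal.exists_ideal_over_prime_of_isIntegral (S := Rb) (q.asIdeal.map (Ideal.Quotient.mk p)) ⊥
    (by rw [← RingHom.ker_eq_comap_bot, (RingHom.injective_iff_ker_eq_bot _).1 hinj]; exact bot_le)
  haveI : Q.IsPrime := hQq.1
  have hQcomap : Q.comap a₀.hom = q.asIdeal := by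
    show Q.comap ((algebraMap (Γ(Y, V) ⧸ p) Rb).comp (Ideal.Quotient.mk p)) = q.asIdeal
    rw [← Ideal.comap_comap, hQq.2, Ideal.comap_map_of_surjective _ Ideal.Quotient.mk_surjective,
      ← RingHom.ker_eq_comap_bot, Ideal.mk_ker, sup_eq_left.2 hpq]
  have hrQ : r ∉ Q := fun h => hq (hQcomap.le (Ideal.mem_of_dvd Q hc h))
  obtain ⟨k, _, _, _, hker⟩ := exists_algClosed_point Q
  obtain ⟨hI, hC⟩ := key k (hV.fromSpec q) (by
    rw [Scheme.Hom.comp_apply]
    refine congrArg hV.fromSpec (PrimeSpectrum.ext ?_)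
    show (((IsLocalRing.maximalIdeal k).comap (algebraMap Rb k)).comap a₀.hom) = q.asIdeal
    rw [IsLocalRing.maximalIdeal_eq_bot, ← RingHom.ker_eq_comap_bot, hker, hQcomap])
  obtain ⟨h1, h2⟩ := hcount k (fun h => hrQ (hker.le h))
  exact ⟨hI.symm.trans (h1.trans hyI), hC.symm.trans (h2.trans hyC)⟩

theorem irreducibleSpace_iff_encard {Z : Type u} [TopologicalSpace Z] :
    IrreducibleSpace Z ↔ (irreducibleComponents Z).encard = 1 := by
  constructor
  · intro h
    rw [irreducibleComponents_eq_singleton, Set.encard_singleton]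
  · intro h
    obtain ⟨s, hs⟩ := Set.encard_eq_one.1 h
    have hmem : ∀ z : Z, z ∈ s := fun z =>
      (hs.le (irreducibleComponent_mem_irreducibleComponents z) : irreducibleComponent z = s) ▸
        mem_irreducibleComponent
    rw [irreducibleSpace_def, Set.top_eq_univ, ← Set.eq_univ_of_forall hmem]
    exact (hs.ge rfl).1

theorem connectedSpace_iff_card {Z : Type u} [TopologicalSpace Z] :
    ConnectedSpace Z ↔ ENat.card (_root_.ConnectedComponents Z) = 1 := by
  rw [ENat.card_eq_one_iff_unique]
  constructor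
  · intro h
    exact (unique_iff_subsingleton_and_nonempty _).2 ⟨inferInstance, inferInstance⟩
  · rintro h
    obtain ⟨h1, h2⟩ := (unique_iff_subsingleton_and_nonempty _).1 h
    haveI : PreconnectedSpace Z := preconnectedSpace_iff_connectedComponent.2 fun x =>
      Set.eq_univ_of_forall fun y => ConnectedComponents.coe_eq_coe'.1 (Subsingleton.elim _ _)
    exact { toNonempty := ConnectedComponents.nonempty_iff_nonempty.1 h2 }

/-- A fibre is geometrically irreducible iff its geometric number of components is one. -/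
theorem geometricallyIrreducible_fiber_iff {X Y : Scheme.{u}} (f : X ⟶ Y) (y : Y) :
    GeometricallyIrreducible (f.fiberToSpecResidueField y) ↔ MoreMor.nGeomIrredComp f y = 1 := by
  constructor
  · intro h
    exact irreducibleSpace_iff_encard.1
      (h.geometrically_irreducibleSpace _ _ _ (IsPullback.of_hasPullback _ _))
  · intro h
    refine ⟨geometrically_iff_of_isClosedUnderIsomorphisms.2 fun K _ b => ?_⟩
    let Ω := AlgebraicClosure K
    let c := Spec.map (CommRingCat.ofHom (algebraMap K Ω))
    have hsp : IrreducibleSpace ↥(pullback f ((c ≫ b) ≫ Y.fromSpecResidueField y)) := by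
      rw [irreducibleSpace_iff_encard, (nGeom_eq f _ (y := y) ?_).1, h]
      rw [Scheme.Hom.comp_apply, Scheme.fromSpecResidueField_apply]
    haveI : Surjective c := ⟨fun x => ⟨IsLocalRing.closedPoint _, Subsingleton.elim _ _⟩⟩
    let g := pullback.snd f (Y.fromSpecResidueField y)
    let p₁ : pullback (pullback.snd g b) c ⟶ pullback g b := pullback.fst _ _
    let e : pullback (pullback.snd g b) c ≅ pullback f ((c ≫ b) ≫ Y.fromSpecResidueField y) :=
      pullbackLeftPullbackSndIso g b c ≪≫ pullbackLeftPullbackSndIso f _ _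
    haveI : Surjective p₁ := MorphismProperty.pullback_fst (pullback.snd g b) c ‹_›
    haveI : IrreducibleSpace ↥(pullback (pullback.snd g b) c) :=
      haveI : Nonempty ↥(pullback (pullback.snd g b) c) :=
        e.hom.homeomorph.toEquiv.nonempty
      e.hom.homeomorph.isOpenEmbedding.irreducibleSpace
    rw [irreducibleSpace_def, Set.top_eq_univ, ← Set.range_eq_univ.2 p₁.surjective, ← Set.image_univ]
    exact (IrreducibleSpace.isIrreducible_univ _).image _ p₁.continuous.continuousOn

/-- A fibre is geometrically connected iff its geometric number of connected components is one. -/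
theorem geometricallyConnected_fiber_iff {X Y : Scheme.{u}} (f : X ⟶ Y) (y : Y) :
    GeometricallyConnected (f.fiberToSpecResidueField y) ↔ MoreMor.nGeomConnComp f y = 1 := by
  constructor
  · intro h
    exact connectedSpace_iff_card.1
      (h.geometrically_connectedSpace _ _ _ (IsPullback.of_hasPullback _ _))
  · intro h
    refine ⟨geometrically_iff_of_isClosedUnderIsomorphisms.2 fun K _ b => ?_⟩
    let Ω := AlgebraicClosure K
    let c := Spec.map (CommRingCat.ofHom (algebraMap K Ω))
    have hsp : ConnectedSpace ↥(pullback f ((c ≫ b) ≫ Y.fromSpecResidueField y)) := by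
      rw [connectedSpace_iff_card, (nGeom_eq f _ (y := y) ?_).2, h]
      rw [Scheme.Hom.comp_apply, Scheme.fromSpecResidueField_apply]
    haveI : Surjective c := ⟨fun x => ⟨IsLocalRing.closedPoint _, Subsingleton.elim _ _⟩⟩
    let g := pullback.snd f (Y.fromSpecResidueField y)
    let p₁ : pullback (pullback.snd g b) c ⟶ pullback g b := pullback.fst _ _
    let e : pullback (pullback.snd g b) c ≅ pullback f ((c ≫ b) ≫ Y.fromSpecResidueField y) :=
      pullbackLeftPullbackSndIso g b c ≪≫ pullbackLeftPullbackSndIso f _ _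
    haveI : Surjective p₁ := MorphismProperty.pullback_fst (pullback.snd g b) c ‹_›
    haveI : ConnectedSpace ↥(pullback (pullback.snd g b) c) :=
      e.inv.homeomorph.surjective.connectedSpace e.inv.continuous
    exact p₁.surjective.connectedSpace p₁.continuous

/-- The counts are invariant under base change. -/
theorem nGeom_baseChange {X Y X' Y' : Scheme.{u}} {f : X ⟶ Y} {g : Y' ⟶ Y} {f' : X' ⟶ Y'} {g' : X' ⟶ X}
    (hc : IsPullback g' f' f g) (y' : Y') :
    MoreMor.nGeomIrredComp f' y' = MoreMor.nGeomIrredComp f (g y') ∧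
      MoreMor.nGeomConnComp f' y' = MoreMor.nGeomConnComp f (g y') := by
  let k := AlgebraicClosure (Y'.residueField y')
  let a' : Spec (CommRingCat.of k) ⟶ Y' :=
    Spec.map (CommRingCat.ofHom (algebraMap (Y'.residueField y') k)) ≫ Y'.fromSpecResidueField y'
  have ha : a' (IsLocalRing.closedPoint k) = y' := by
    rw [Scheme.Hom.comp_apply]
    exact Scheme.fromSpecResidueField_apply _ _
  obtain ⟨h1, h2⟩ := nGeom_eq f' a' ha
  obtain ⟨h3, h4⟩ := nGeom_eq f (a' ≫ g) (y := g y') (by rw [Scheme.Hom.comp_apply, ha])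
  let e : pullback f' a' ≅ pullback f (a' ≫ g) :=
    ((IsPullback.of_hasPullback f' a').paste_horiz hc).isoPullback
  exact ⟨h1.symm.trans ((encard_irreducibleComponents_congr e.hom.homeomorph).trans h3),
    h2.symm.trans ((card_connectedComponents_congr e.hom.homeomorph).trans h4)⟩

end Groth.Agent.H7Flat.GeomInt
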