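import Groth.Agent.H7Flat.GeomInt.Constructible
import Groth.Agent.H7Lim.FPDescent.Noetherian

/-!
# Local constructibility of level sets of base change invariant functions of fibres
-/

set_option autoImplicit false
set_option linter.style.haveILetI false
set_option backward.isDefEq.respectTransparency false

universe u

open CategoryTheory CategoryTheory.Limits AlgebraicGeometry Topology TopologicalSpace

namespace Groth.Agent.H7Flat.GeomInt

/-- Local constructibility follows from the Noetherian case. -/
theorem isLocallyConstructible_of_noetherian (Q : ∀ ⦃X S : Scheme.{u}⦄, (X ⟶ S) → S → Prop)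
    (hbc : ∀ {X S X' S' : Scheme.{u}} {g' : X' ⟶ X} {f' : X' ⟶ S'} {f : X ⟶ S} {g : S' ⟶ S},
      IsPullback g' f' f g → ∀ s', Q f' s' ↔ Q f (g s'))
    (hcons : ∀ {X S : Scheme.{u}} [IsNoetherian S] [IsAffine S] (f : X ⟶ S) [LocallyOfFinitePresentation f]
      [QuasiCompact f] [QuasiSeparated f], IsConstructible {s | Q f s})
    {X S : Scheme.{u}} (f : X ⟶ S) [LocallyOfFinitePresentation f] [QuasiCompact f] [QuasiSeparated f] :
    IsLocallyConstructible {s : S | Q f s} := by
  refine IsLocallyConstructible.of_isOpenCover (U := fun U : S.affineOpens => U.1) (iSup_affineOpens_eq_top S)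
    fun U => ?_
  have hU := U.2
  suffices h : IsConstructible (hU.fromSpec ⁻¹' {s : S | Q f s}) by
    convert! H7Lim.isLocallyConstructible_preimage h.isLocallyConstructible hU.isoSpec.hom using 1
    ext z
    show _ ↔ Q f (hU.fromSpec (hU.isoSpec.hom z))
    rw [← Scheme.Hom.comp_apply, IsAffineOpen.isoSpec_hom_fromSpec]
    rfl
  have hc := IsPullback.of_hasPullback f hU.fromSpec
  obtain ⟨R₀, _, _, X₀, f₀, g, hR₀, _, _, _, hsq⟩ :=
    H7Lim.FPDescent.exists_noetherian_model Γ(S, U.1) (pullback.snd f hU.fromSpec)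
  haveI : IsNoetherianRing R₀ := Algebra.FiniteType.isNoetherianRing ℤ R₀
  haveI : IsNoetherianRing (CommRingCat.of R₀) := ‹IsNoetherianRing R₀›
  have hE := Scheme.Hom.isConstructible_preimage (Spec.map (CommRingCat.ofHom (algebraMap R₀ Γ(S, U.1))))
    (hcons f₀)
  convert! hE using 1
  ext s
  exact (hbc hc s).symm.trans (hbc hsq s)

end Groth.Agent.H7Flat.GeomInt
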