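import Groth.Agent.H7Flat.GeomInt.Counts
import Groth.Agent.H8Props.FibreDimApprox
import Groth.Agent.H8Props.FlatApproxAffine
import Groth.Agent.H28Top.Noeth

/-!
# Constructibility of the geometric numbers of components over a Noetherian base
-/

set_option autoImplicit false
set_option linter.style.haveILetI false
set_option backward.isDefEq.respectTransparency false

universe u

open CategoryTheory CategoryTheory.Limits AlgebraicGeometry Topology

namespace Groth.Agent.H7Flat.GeomInt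

/-- A function which is constant near every point on its closure has constructible level sets. -/
theorem isConstructible_of_eventually_eq {S : Scheme.{u}} [IsNoetherian S] {α : Type*} (n : S → α)
    (h : ∀ y, ∃ O : S.Opens, y ∈ O ∧ ∀ y' ∈ O, y ⤳ y' → n y' = n y) (a : α) :
    IsConstructible {s | n s = a} := by
  refine H28Top.isConstructible_of_forall_irreducible fun Y hY hirr hdense => ?_
  have hη := hirr.isGenericPoint_genericPoint hY
  obtain ⟨O, hO, hconst⟩ := h hirr.genericPoint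
  refine ⟨O, O.2, ⟨_, hO, hη.mem⟩, ?_⟩
  obtain ⟨z, hzO, hz, hzY⟩ := mem_closure_iff.1 (hdense hη.mem) O O.2 hO
  rintro y ⟨hyO, hyY⟩
  show n y = a
  rw [hconst y hyO (hη.specializes hyY), ← hconst z hzO (hη.specializes hzY)]
  exact hz

theorem isConstructible_nGeomIrredComp_noetherian {X S : Scheme.{u}} [IsNoetherian S] (f : X ⟶ S)
    [LocallyOfFiniteType f] [QuasiCompact f] (n : ℕ∞) :
    IsConstructible {s : S | MoreMor.nGeomIrredComp f s = n} :=
  isConstructible_of_eventually_eq _ (fun y => by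
    obtain ⟨O, hO, h⟩ := exists_opens_counts f y
    exact ⟨O, hO, fun y' h1 h2 => (h y' h1 h2).1⟩) n

theorem isConstructible_nGeomConnComp_noetherian {X S : Scheme.{u}} [IsNoetherian S] (f : X ⟶ S)
    [LocallyOfFiniteType f] [QuasiCompact f] (n : ℕ∞) :
    IsConstructible {s : S | MoreMor.nGeomConnComp f s = n} :=
  isConstructible_of_eventually_eq _ (fun y => by
    obtain ⟨O, hO, h⟩ := exists_opens_counts f y
    exact ⟨O, hO, fun y' h1 h2 => (h y' h1 h2).2⟩) n

/-- A fibrewise property with constructible loci descends to a finite type `ℤ`-model. -/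
theorem exists_model_of_constructible (Q : ∀ ⦃X S : Scheme.{u}⦄, (X ⟶ S) → S → Prop)
    (hbc : ∀ {X S X' S' : Scheme.{u}} {g' : X' ⟶ X} {f' : X' ⟶ S'} {f : X ⟶ S} {g : S' ⟶ S},
      IsPullback g' f' f g → ∀ s', Q f' s' ↔ Q f (g s'))
    (hcons : ∀ {X S : Scheme.{u}} [IsNoetherian S] [IsAffine S] (f : X ⟶ S) [LocallyOfFiniteType f]
      [QuasiCompact f], IsConstructible {s | Q f s})
    {X S : Scheme.{u}} (f : X ⟶ S) [IsAffine X] [IsAffine S] [LocallyOfFinitePresentation f]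
    (hQ : ∀ s, Q f s) :
    ∃ (X₀ S₀ : Scheme.{u}) (f₀ : X₀ ⟶ S₀) (g : S ⟶ S₀) (g' : X ⟶ X₀), IsAffine X₀ ∧ IsAffine S₀ ∧
      IsPullback g' f f₀ g ∧ Algebra.FiniteType ℤ Γ(S₀, ⊤) ∧ LocallyOfFiniteType f₀ ∧ ∀ s₀, Q f₀ s₀ := by
  letI : Algebra Γ(S, ⊤) Γ(X, ⊤) := f.appTop.hom.toAlgebra
  haveI : Algebra.FinitePresentation Γ(S, ⊤) Γ(X, ⊤) :=
    (HasRingHomProperty.iff_of_isAffine (P := @LocallyOfFinitePresentation)).1 ‹LocallyOfFinitePresentation f›
  obtain ⟨R₀, B₀, _, _, _, _, g', hR, hB, hsq⟩ :=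
    H8Props.FlatApprox.exists_isPullback_spec_fp Γ(S, ⊤) Γ(X, ⊤)
  haveI : IsNoetherianRing R₀ := Algebra.FiniteType.isNoetherianRing ℤ R₀
  haveI : IsNoetherianRing (CommRingCat.of R₀) := ‹IsNoetherianRing R₀›
  let φ₀ := Spec.map (CommRingCat.ofHom (algebraMap R₀ B₀))
  let g := S.isoSpec.hom ≫ Spec.map (CommRingCat.ofHom (algebraMap R₀ Γ(S, ⊤)))
  haveI : LocallyOfFiniteType φ₀ := (HasRingHomProperty.Spec_iff (P := @LocallyOfFiniteType)).mpr
    (RingHom.finiteType_algebraMap.mpr inferInstance)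
  have hpb : IsPullback (X.isoSpec.hom ≫ g') f φ₀ g := by
    refine hsq.of_iso X.isoSpec.symm (Iso.refl _) S.isoSpec.symm (Iso.refl _) ?_ ?_ ?_ ?_
    · simp
    · exact Scheme.isoSpec_inv_naturality f
    · simp [φ₀]
    · simp [g]
  haveI : IsNoetherian (Spec (CommRingCat.of R₀)) := inferInstance
  have hE := hcons φ₀
  have hpre : ∀ p : PrimeSpectrum Γ(S, ⊤), PrimeSpectrum.comap (algebraMap R₀ Γ(S, ⊤)) p ∈
      {s : Spec (CommRingCat.of R₀) | Q φ₀ s} := by
    intro p
    show Q φ₀ ((Spec.map (CommRingCat.ofHom (algebraMap R₀ Γ(S, ⊤)))) p)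
    have : (Spec.map (CommRingCat.ofHom (algebraMap R₀ Γ(S, ⊤)))) p = g (S.isoSpec.inv p) := by
      show _ = (S.isoSpec.hom ≫ _) _
      exact (congrArg (fun k : Spec Γ(S, ⊤) ⟶ Spec (CommRingCat.of R₀) => k p) (Iso.inv_hom_id_assoc S.isoSpec _)).symm
    rw [this, ← hbc hpb]
    exact hQ _
  obtain ⟨R', hR', hmem⟩ :=
    H8Props.FibreDimApprox.exists_subalgebra_range_subset (R := R₀) (A := Γ(S, ⊤)) hE hpre
  let h := Spec.map (CommRingCat.ofHom (algebraMap R₀ R'))
  let g₁ := S.isoSpec.hom ≫ Spec.map (CommRingCat.ofHom (algebraMap R' Γ(S, ⊤)))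
  have hg : g₁ ≫ h = g := by
    simp only [g₁, h, g, Category.assoc, ← Spec.map_comp, ← CommRingCat.ofHom_comp,
      ← IsScalarTower.algebraMap_eq]
  haveI : IsAffine (pullback φ₀ h) := inferInstance
  refine ⟨pullback φ₀ h, Spec (CommRingCat.of R'), pullback.snd φ₀ h, g₁,
    pullback.lift (X.isoSpec.hom ≫ g') (f ≫ g₁) (by rw [hpb.w, Category.assoc, hg]), inferInstance,
    inferInstance, ?_, ?_, inferInstance, fun s₀ => ?_⟩
  · refine IsPullback.of_right ?_ (pullback.lift_snd _ _ _) (IsPullback.of_hasPullback φ₀ h)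
    rw [pullback.lift_fst, hg]; exact hpb
  · haveI : Algebra.FiniteType R₀ R' := R'.fg_iff_finiteType.mp hR'
    exact (Algebra.FiniteType.trans hR ‹_›).equiv
      (Scheme.ΓSpecIso (CommRingCat.of R')).symm.commRingCatIsoToRingEquiv.toIntAlgEquiv
  · exact (hbc (IsPullback.of_hasPullback φ₀ h) s₀).2 (hmem s₀)

end Groth.Agent.H7Flat.GeomInt
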