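import Groth.Agent.H7Flat.GeomInt.Irreducible
import Groth.Agent.H7Flat.GenericFibreScheme
import Groth.Agent.H7Flat.GenericFreeness
import Mathlib.FieldTheory.SeparablyGenerated
import Mathlib.FieldTheory.PrimitiveElement
import Mathlib.FieldTheory.Minpoly.IsIntegrallyClosed
import Mathlib.RingTheory.AdjoinRoot
import Mathlib.RingTheory.Polynomial.ScaleRoots
import Mathlib.RingTheory.Polynomial.UniqueFactorization
import Mathlib.RingTheory.EssentialFiniteness
import Mathlib.RingTheory.Polynomial.RationalRoot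

/-!
# Geometrically integral generic fibres spread: rings
-/

set_option autoImplicit false
set_option linter.style.haveILetI false

universe u

open Polynomial TensorProduct

namespace Groth.Agent.H7Flat.GeomInt

variable {d : ℕ}

/-- A hypersurface model of a finitely generated extension of an algebraically closed field. -/
theorem exists_model {R : Type u} [CommRing R] [IsDomain R] (K : Type u) [Field K] [Algebra R K]
    [IsFractionRing R K] [IsAlgClosed K] (F : Type u) [Field F] [Algebra K F] [Algebra.EssFiniteType K F]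
    [Algebra R F] [IsScalarTower R K F] :
    ∃ (d : ℕ) (t : Fin d → F) (θ : F) (h₀ : (MvPolynomial (Fin d) R)[X]),
      Function.Injective (MvPolynomial.aeval (R := R) t) ∧ h₀.Monic ∧
      Irreducible (h₀.map (MvPolynomial.map (algebraMap R K))) ∧
      h₀.eval₂ (MvPolynomial.aeval (R := R) t).toRingHom θ = 0 ∧
      (∀ q : (MvPolynomial (Fin d) R)[X], q.degree < h₀.degree →
        q.eval₂ (MvPolynomial.aeval (R := R) t).toRingHom θ = 0 → q = 0) ∧
      ∀ x : F, ∃ (H : (MvPolynomial (Fin d) R)[X]) (b : MvPolynomial (Fin d) R), b ≠ 0 ∧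
        x * MvPolynomial.aeval (R := R) t b = H.eval₂ (MvPolynomial.aeval (R := R) t).toRingHom θ := by
  classical
  obtain ⟨s, hs, hsep⟩ := exists_isTranscendenceBasis_and_isSeparable_of_perfectField K F
  let t : Fin s.card → F := fun i => (s.equivFin.symm i : F)
  have hrange : Set.range t = (s : Set F) := by
    ext x
    exact ⟨fun ⟨i, hi⟩ => hi ▸ (s.equivFin.symm i).2, fun hx => ⟨s.equivFin ⟨x, hx⟩, by simp [t]⟩⟩
  have htK : AlgebraicIndependent K t := hs.1.comp s.equivFin.symm s.equivFin.symm.injective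
  let F₀ := IntermediateField.adjoin K (s : Set F)
  haveI : Algebra.EssFiniteType F₀ F := Algebra.EssFiniteType.of_comp K F₀ F
  haveI : Algebra.IsSeparable F₀ F := hsep
  haveI : FiniteDimensional F₀ F := Algebra.finite_of_essFiniteType_of_isAlgebraic
  obtain ⟨θ', hθ'⟩ := Field.exists_primitive_element F₀ F
  -- the polynomial ring over `K`
  let PK := MvPolynomial (Fin s.card) K
  letI : Algebra PK F := (MvPolynomial.aeval (R := K) t).toRingHom.toAlgebra
  haveI : IsScalarTower K PK F := IsScalarTower.of_algebraMap_eq fun c => (MvPolynomial.aeval_C t c).symm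
  have hPKinj : Function.Injective (algebraMap PK F) := htK
  haveI : FaithfulSMul PK F := (faithfulSMul_iff_algebraMap_injective _ _).2 hPKinj
  have hF₀ : ∀ x : F₀, ∃ a b : PK, b ≠ 0 ∧ (x : F) * algebraMap PK F b = algebraMap PK F a := fun x => by
    have hx : (x : F) ∈ IntermediateField.adjoin K (Set.range t) := hrange.symm ▸ x.2
    obtain ⟨r, q, h⟩ := (IntermediateField.mem_adjoin_range_iff K t _).1 hx
    by_cases hq : MvPolynomial.aeval t q = 0
    · refine ⟨0, 1, one_ne_zero, ?_⟩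
      rw [h, hq, div_zero, zero_mul, map_zero]
    · exact ⟨r, q, fun h0 => hq (by rw [h0, map_zero]), (eq_div_iff hq).1 h⟩
  have halg : ∀ x : F, IsAlgebraic PK x := by
    have : Algebra.IsAlgebraic (Algebra.adjoin K (Set.range t)) F := by
      have h := hs.isAlgebraic
      rwa [show Set.range (Subtype.val : s → F) = (s : Set F) by ext; simp, ← hrange] at h
    intro x
    obtain ⟨p, hp0, hp⟩ := this.isAlgebraic x
    have hsurj : Function.Surjective (MvPolynomial.aeval (R := K) t).rangeRestrict.toRingHom :=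
      (MvPolynomial.aeval (R := K) t).rangeRestrict_surjective
    let e : PK →+* Algebra.adjoin K (Set.range t) :=
      ((MvPolynomial.aeval (R := K) t).codRestrict _ fun z => by
        rw [Algebra.adjoin_range_eq_range_aeval]; exact ⟨z, rfl⟩).toRingHom
    have he : Function.Surjective e := fun ⟨z, hz⟩ => by
      rw [Algebra.adjoin_range_eq_range_aeval] at hz
      obtain ⟨w, rfl⟩ := hz
      exact ⟨w, rfl⟩
    obtain ⟨q, rfl⟩ := Polynomial.map_surjective e he p
    refine ⟨q, fun h => hp0 (by rw [h, Polynomial.map_zero]), ?_⟩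
    rw [← hp, Polynomial.aeval_def, Polynomial.aeval_def, Polynomial.eval₂_map]
    rfl
  obtain ⟨y, hy, hint⟩ := (halg θ').exists_integral_multiple
  let θ₁ := y • θ'
  let hK := minpoly PK θ₁
  have hKm : hK.Monic := minpoly.monic hint
  -- clear denominators
  obtain ⟨⟨c, hc⟩, hcint⟩ := IsLocalization.exist_integer_multiples_of_finset (nonZeroDivisors R)
    (hK.support.biUnion fun i => (hK.coeff i).support.image fun v => MvPolynomial.coeff v (hK.coeff i))
  have hc0 : c ≠ 0 := nonZeroDivisors.ne_zero hc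
  have hcK : algebraMap R K c ≠ 0 := (map_ne_zero_iff _ (IsFractionRing.injective R K)).2 hc0
  let hK' := hK.scaleRoots (MvPolynomial.C (algebraMap R K c))
  have hlift : hK' ∈ Polynomial.lifts (MvPolynomial.map (σ := Fin s.card) (algebraMap R K)) := by
    rw [Polynomial.lifts_iff_coeff_lifts]
    intro i
    rw [Polynomial.coeff_scaleRoots]
    rcases lt_trichotomy i hK.natDegree with hi | hi | hi
    · rw [show hK.natDegree - i = (hK.natDegree - i - 1) + 1 by omega, pow_succ',
        ← mul_assoc, ← MvPolynomial.C_pow, ← map_pow]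
      refine ⟨(MvPolynomial.C (c ^ (hK.natDegree - i - 1))) * ?_, ?_⟩
      · exact (show ∃ p : MvPolynomial (Fin s.card) R, MvPolynomial.map (algebraMap R K) p =
            hK.coeff i * MvPolynomial.C (algebraMap R K c) from by
          refine MvPolynomial.mem_range_map_iff_coeffs_subset.2 ?_
          intro z hz
          obtain ⟨v, hv, rfl⟩ := MvPolynomial.mem_coeffs_iff.1 hz
          rw [mul_comm, MvPolynomial.coeff_C_mul]
          by_cases hci : MvPolynomial.coeff v (hK.coeff i) = 0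
          · exact ⟨0, by rw [hci, mul_zero, map_zero]⟩
          obtain ⟨w, hw⟩ := hcint (MvPolynomial.coeff v (hK.coeff i)) (Finset.mem_biUnion.2
            ⟨i, Polynomial.mem_support_iff.2 (fun h => hci (by rw [h, MvPolynomial.coeff_zero])),
              Finset.mem_image.2 ⟨v, MvPolynomial.mem_support_iff.2 hci, rfl⟩⟩)
          exact ⟨w, by rw [hw, Algebra.smul_def]⟩).choose
      · rw [map_mul, MvPolynomial.map_C, Exists.choose_spec (p := fun p : MvPolynomial (Fin s.card) R =>
          MvPolynomial.map (algebraMap R K) p = hK.coeff i * MvPolynomial.C (algebraMap R K c))]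
        ring
    · subst hi
      exact ⟨1, by rw [map_one, Nat.sub_self, pow_zero, mul_one, hKm.coeff_natDegree]⟩
    · exact ⟨0, by rw [map_zero, Polynomial.coeff_eq_zero_of_natDegree_lt hi, zero_mul]⟩
  obtain ⟨h₀, hh₀, -, hh₀m⟩ := Polynomial.lifts_and_degree_eq_and_monic hlift ((monic_scaleRoots_iff _).2 hKm)
  let θ := algebraMap PK F (MvPolynomial.C (algebraMap R K c)) * θ₁
  have hθ0 : aeval θ hK' = 0 := scaleRoots_aeval_eq_zero (minpoly.aeval PK θ₁)
  have hmin : ∀ q : PK[X], q.degree < hK'.degree → q = 0 ∨ aeval θ q ≠ 0 := fun q hq => by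
    by_contra hcon
    push Not at hcon
    obtain ⟨hq0, hqθ⟩ := hcon
    have hu : IsUnit (MvPolynomial.C (algebraMap R K c) : PK) := hcK.isUnit.map _
    let q' := q.comp (C (MvPolynomial.C (algebraMap R K c)) * X)
    have hq'θ : aeval θ₁ q' = 0 := by rw [aeval_comp, map_mul, aeval_C, aeval_X]; exact hqθ
    have hdeg : q'.natDegree = q.natDegree := by
      rw [natDegree_comp, natDegree_C_mul_X _ hu.ne_zero, mul_one]
    have hq'0 : q' ≠ 0 := fun h => by
      rcases Polynomial.comp_eq_zero_iff.1 h with h | ⟨-, h⟩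
      · exact hq0 h
      · have := congrArg (fun p => Polynomial.coeff p 1) h
        simp only [coeff_C_mul_X, if_pos rfl, coeff_C, one_ne_zero, if_false] at this
        exact hu.ne_zero this
    have := minpoly.IsIntegrallyClosed.degree_le_of_ne_zero hq'0 hq'θ
    rw [degree_eq_natDegree hq'0, hdeg, degree_eq_natDegree (minpoly.ne_zero hint), Nat.cast_le] at this
    rw [degree_scaleRoots, degree_eq_natDegree hq0, degree_eq_natDegree hKm.ne_zero, Nat.cast_lt] at hq
    exact absurd this (not_le.2 hq)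
  have hKθ : hK' = minpoly PK θ := minpoly.unique' PK θ ((monic_scaleRoots_iff _).2 hKm) hθ0 hmin
  have hirr : Irreducible hK' := hKθ ▸ minpoly.irreducible ⟨hK', (monic_scaleRoots_iff _).2 hKm, hθ0⟩
  have hσ : ∀ p : MvPolynomial (Fin s.card) R,
      MvPolynomial.aeval (R := R) t p = algebraMap PK F (MvPolynomial.map (algebraMap R K) p) := fun p =>
    (MvPolynomial.aeval_map_algebraMap K t p).symm
  have hσ' : (MvPolynomial.aeval (R := R) t).toRingHom =
      (algebraMap PK F).comp (MvPolynomial.map (algebraMap R K)) := RingHom.ext hσ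
  have htR : Function.Injective (MvPolynomial.aeval (R := R) t) := fun a b h => by
    rw [hσ, hσ] at h
    exact MvPolynomial.map_injective _ (IsFractionRing.injective R K) (hPKinj h)
  refine ⟨s.card, t, θ, h₀, htR, hh₀m, hh₀.symm ▸ hirr, ?_, fun q hq hqθ => ?_, ?_⟩
  · rw [hσ', ← Polynomial.eval₂_map, hh₀]; exact hθ0
  · rw [hσ', ← Polynomial.eval₂_map] at hqθ
    have hdeg : (q.map (MvPolynomial.map (algebraMap R K))).degree < hK'.degree := by
      rw [← hh₀, hh₀m.degree_map]
      exact degree_map_le.trans_lt hq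
    exact (Polynomial.map_eq_zero_iff (MvPolynomial.map_injective _ (IsFractionRing.injective R K))).1
      ((hmin _ hdeg).resolve_right fun h => h hqθ)
  -- every element is a quotient
  let σ := (MvPolynomial.aeval (R := R) t).toRingHom
  let Good := fun x : F => ∃ (H : (MvPolynomial (Fin s.card) R)[X]) (b : MvPolynomial (Fin s.card) R),
    b ≠ 0 ∧ x * σ b = H.eval₂ σ θ
  have hmul : ∀ x y, Good x → Good y → Good (x * y) := fun x y ⟨H, b, hb, e⟩ ⟨H', b', hb', e'⟩ =>
    ⟨H * H', b * b', mul_ne_zero hb hb', by rw [map_mul, eval₂_mul, ← e, ← e']; ring⟩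
  have hadd : ∀ x y, Good x → Good y → Good (x + y) := fun x y ⟨H, b, hb, e⟩ ⟨H', b', hb', e'⟩ =>
    ⟨H * C b' + H' * C b, b * b', mul_ne_zero hb hb', by
      rw [map_mul, eval₂_add, eval₂_mul, eval₂_mul, eval₂_C, eval₂_C, ← e, ← e']; ring⟩
  have hR : ∀ p, Good (σ p) := fun p => ⟨C p, 1, one_ne_zero, by rw [map_one, mul_one, eval₂_C]⟩
  have hinv : ∀ p, p ≠ 0 → Good (σ p)⁻¹ := fun p hp => ⟨1, p, hp, by
    rw [eval₂_one, inv_mul_cancel₀]
    exact fun h => hp (htR (h.trans (map_zero _).symm))⟩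
  have hK0 : ∀ z : K, Good (algebraMap K F z) := fun z => by
    obtain ⟨a, b, hb, rfl⟩ := IsFractionRing.div_surjective (A := R) z
    have e : ∀ r : R, algebraMap K F (algebraMap R K r) = σ (MvPolynomial.C r) := fun r => by
      rw [← IsScalarTower.algebraMap_apply]; exact (MvPolynomial.aeval_C t r).symm
    rw [map_div₀, e, e, div_eq_mul_inv]
    exact hmul _ _ (hR _) (hinv _ (fun h => nonZeroDivisors.ne_zero hb (MvPolynomial.C_eq_zero.1 h)))
  have hPK : ∀ a : PK, Good (algebraMap PK F a) := fun a => by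
    induction a using MvPolynomial.induction_on with
    | C z => rw [← MvPolynomial.algebraMap_eq, ← IsScalarTower.algebraMap_apply]; exact hK0 z
    | add p q hp hq => rw [map_add]; exact hadd _ _ hp hq
    | mul_X p i hp =>
      rw [map_mul]
      refine hmul _ _ hp ?_
      have := hR (MvPolynomial.X i)
      rwa [show σ (MvPolynomial.X i) = algebraMap PK F (MvPolynomial.X i) by
        show MvPolynomial.aeval t _ = MvPolynomial.aeval t _
        rw [MvPolynomial.aeval_X, MvPolynomial.aeval_X]] at this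
  have hPKinv : ∀ a : PK, a ≠ 0 → Good (algebraMap PK F a)⁻¹ := fun a ha => by
    obtain ⟨⟨e, he⟩, hw⟩ := IsLocalization.exist_integer_multiples_of_finset (nonZeroDivisors R)
      (a.support.image fun v => a.coeff v)
    obtain ⟨p, hp⟩ : ∃ p : MvPolynomial (Fin s.card) R,
        MvPolynomial.map (algebraMap R K) p = MvPolynomial.C (algebraMap R K e) * a := by
      refine MvPolynomial.mem_range_map_iff_coeffs_subset.2 ?_
      intro z hz
      obtain ⟨v, hv, rfl⟩ := MvPolynomial.mem_coeffs_iff.1 hz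
      rw [MvPolynomial.coeff_C_mul]
      by_cases hci : a.coeff v = 0
      · exact ⟨0, by rw [hci, mul_zero, map_zero]⟩
      obtain ⟨w, hw'⟩ := hw _ (Finset.mem_image.2 ⟨v, MvPolynomial.mem_support_iff.2 hci, rfl⟩)
      exact ⟨w, by rw [hw', Algebra.smul_def]⟩
    have heK : algebraMap R K e ≠ 0 :=
      (map_ne_zero_iff _ (IsFractionRing.injective R K)).2 (nonZeroDivisors.ne_zero he)
    have hp0 : p ≠ 0 := fun h => by
      rw [h, map_zero] at hp
      exact mul_ne_zero (fun h' => heK (MvPolynomial.C_eq_zero.1 h')) ha hp.symm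
    have : Good (σ (MvPolynomial.C e) * (σ p)⁻¹) := hmul _ _ (hR _) (hinv p hp0)
    rwa [show σ (MvPolynomial.C e) * (σ p)⁻¹ = (algebraMap PK F a)⁻¹ from by
      show MvPolynomial.aeval t (MvPolynomial.C e) * (MvPolynomial.aeval t p)⁻¹ = _
      rw [hσ, hσ, hp, map_mul, MvPolynomial.map_C, mul_inv, ← mul_assoc, mul_inv_cancel₀, one_mul]
      exact fun h => heK (MvPolynomial.C_eq_zero.1 ((injective_iff_map_eq_zero _).1 hPKinj _ h))] at this
  have hF₀good : ∀ z : F₀, Good (z : F) := fun z => by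
    obtain ⟨a, b, hb, e⟩ := hF₀ z
    have hb' : algebraMap PK F b ≠ 0 := (map_ne_zero_iff _ hPKinj).2 hb
    rw [show (z : F) = algebraMap PK F a * (algebraMap PK F b)⁻¹ by rw [← e, mul_inv_cancel_right₀ hb']]
    exact hmul _ _ (hPK a) (hPKinv b hb)
  have hθ'good : Good θ' := by
    have hθθ' : θ' = θ * (algebraMap PK F (MvPolynomial.C (algebraMap R K c) * y))⁻¹ := by
      have : algebraMap PK F (MvPolynomial.C (algebraMap R K c) * y) ≠ 0 :=
        (map_ne_zero_iff _ hPKinj).2 (mul_ne_zero (fun h => hcK (MvPolynomial.C_eq_zero.1 h)) hy)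
      rw [eq_mul_inv_iff_mul_eq₀ this, map_mul]
      simp only [θ, θ₁, Algebra.smul_def]
      ring
    rw [hθθ']
    exact hmul _ _ ⟨X, 1, one_ne_zero, by rw [map_one, mul_one, eval₂_X]⟩
      (hPKinv _ (mul_ne_zero (fun h => hcK (MvPolynomial.C_eq_zero.1 h)) hy))
  intro x
  have hx : x ∈ (IntermediateField.adjoin F₀ {θ'}).toSubalgebra := hθ'.symm ▸ trivial
  rw [IntermediateField.adjoin_simple_toSubalgebra_of_isAlgebraic (Algebra.IsAlgebraic.isAlgebraic θ')] at hx
  induction hx using Algebra.adjoin_induction with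
  | mem z hz => rw [Set.mem_singleton_iff.1 hz]; exact hθ'good
  | algebraMap z => exact hF₀good z
  | add a b _ _ ha hb => exact hadd a b ha hb
  | mul a b _ _ ha hb => exact hmul a b ha hb

/-- Elements surviving on fibres. -/
theorem exists_ne_zero_coeff {σ : Type*} {R : Type u} [CommRing R] {p : MvPolynomial σ R} (hp : p ≠ 0) :
    ∃ r : R, r ≠ 0 ∧ ∀ (k : Type u) [CommRing k] [Algebra R k], algebraMap R k r ≠ 0 →
      MvPolynomial.map (algebraMap R k) p ≠ 0 := by
  obtain ⟨v, hv⟩ := MvPolynomial.ne_zero_iff.1 hp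
  refine ⟨p.coeff v, hv, fun k _ _ hk h => hk ?_⟩
  have := congrArg (MvPolynomial.coeff v) h
  rwa [MvPolynomial.coeff_map, MvPolynomial.coeff_zero] at this

/-- The base change of a localised hypersurface is a domain. -/
theorem isDomain_tensor_hypersurface {R : Type u} [CommRing R]
    (h₀ : (MvPolynomial (Fin d) R)[X]) (hm : h₀.Monic) (s : MvPolynomial (Fin d) R)
    (k : Type u) [Field k] [Algebra R k] (hirr : Irreducible (h₀.map (MvPolynomial.map (algebraMap R k))))
    (hs : MvPolynomial.map (algebraMap R k) s ≠ 0) :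
    IsDomain (k ⊗[R] Localization.Away (AdjoinRoot.of h₀ s)) := by
  set C₀ := Localization.Away (AdjoinRoot.of h₀ s)
  set h := h₀.map (MvPolynomial.map (algebraMap R k)) with hh
  haveI : IsDomain (AdjoinRoot h) := AdjoinRoot.isDomain_of_prime hirr.prime
  have hpos : h.natDegree ≠ 0 := fun h0 => by
    refine hirr.not_isUnit ?_
    rw [show h = 1 from (hm.map _).natDegree_eq_zero.1 h0]
    exact isUnit_one
  have hne : AdjoinRoot.of h (MvPolynomial.map (algebraMap R k) s) ≠ 0 := fun h1 => hs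
    (AdjoinRoot.of.injective_of_degree_ne_zero (fun hd => hpos (natDegree_eq_of_degree_eq_some hd))
      (h1.trans (map_zero _).symm))
  set L := Localization.Away (AdjoinRoot.of h (MvPolynomial.map (algebraMap R k) s))
  haveI : IsDomain L := IsLocalization.isDomain_of_le_nonZeroDivisors L
    (powers_le_nonZeroDivisors_of_noZeroDivisors hne)
  let m₀ : AdjoinRoot h₀ →+* AdjoinRoot h :=
    AdjoinRoot.map (MvPolynomial.map (algebraMap R k)) h₀ h dvd_rfl
  have hm₀ : ∀ x, m₀ (AdjoinRoot.of h₀ x) = AdjoinRoot.of h (MvPolynomial.map (algebraMap R k) x) :=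
    fun x => by simp [m₀, AdjoinRoot.map, AdjoinRoot.lift_of]
  let toL : C₀ →+* L := IsLocalization.Away.lift (AdjoinRoot.of h₀ s)
    (g := (algebraMap (AdjoinRoot h) L).comp m₀) (by
      rw [RingHom.comp_apply, hm₀]; exact IsLocalization.Away.algebraMap_isUnit _)
  let toLₐ : C₀ →ₐ[R] L :=
    { toL with
      commutes' := fun r => by
        rw [IsScalarTower.algebraMap_apply R (AdjoinRoot h₀) C₀]
        show toL (algebraMap (AdjoinRoot h₀) C₀ _) = _
        rw [IsLocalization.Away.lift_eq, RingHom.comp_apply,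
          IsScalarTower.algebraMap_apply R (AdjoinRoot h) L]
        congr 1
        rw [AdjoinRoot.algebraMap_eq', RingHom.comp_apply, hm₀, AdjoinRoot.algebraMap_eq', RingHom.comp_apply,
          MvPolynomial.algebraMap_eq, MvPolynomial.map_C, IsScalarTower.algebraMap_apply R k (MvPolynomial (Fin d) k),
          MvPolynomial.algebraMap_eq] }
  let Ψ : k ⊗[R] C₀ →ₐ[R] L :=
    Algebra.TensorProduct.lift (IsScalarTower.toAlgHom R k L) toLₐ fun _ _ => .all _ _
  let inC : C₀ →ₐ[R] k ⊗[R] C₀ := Algebra.TensorProduct.includeRight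
  let mk₀ : (MvPolynomial (Fin d) R)[X] →+* k ⊗[R] C₀ :=
    inC.toRingHom.comp ((algebraMap (AdjoinRoot h₀) C₀).comp (AdjoinRoot.mk h₀))
  let ck : MvPolynomial (Fin d) k →ₐ[k] k ⊗[R] C₀ := MvPolynomial.aeval fun i => mk₀ (C (MvPolynomial.X i))
  have hck : ∀ p : MvPolynomial (Fin d) R, ck (MvPolynomial.map (algebraMap R k) p) = mk₀ (C p) := by
    intro p
    induction p using MvPolynomial.induction_on with
    | C r =>
      rw [MvPolynomial.map_C, MvPolynomial.aeval_C, ← IsScalarTower.algebraMap_apply R k (k ⊗[R] C₀)]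
      show _ = inC (algebraMap (AdjoinRoot h₀) C₀ (AdjoinRoot.mk h₀ (C (MvPolynomial.C r))))
      rw [← inC.commutes r, IsScalarTower.algebraMap_apply R (AdjoinRoot h₀) C₀, AdjoinRoot.algebraMap_eq']
      rfl
    | add p q hp hq => simp only [map_add, hp, hq]
    | mul_X p i hp => simp only [map_mul, hp, MvPolynomial.map_X, ck, MvPolynomial.aeval_X]
  let lk : AdjoinRoot h →+* k ⊗[R] C₀ := AdjoinRoot.lift ck.toRingHom (mk₀ X) (by
    rw [hh, Polynomial.eval₂_map, show ck.toRingHom.comp (MvPolynomial.map (algebraMap R k)) = mk₀.comp C from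
      RingHom.ext hck, ← Polynomial.hom_eval₂, Polynomial.eval₂_C_X]
    show inC (algebraMap (AdjoinRoot h₀) C₀ (AdjoinRoot.mk h₀ h₀)) = 0
    rw [AdjoinRoot.mk_self, map_zero, map_zero])
  have hlk : ∀ x, lk (m₀ x) = inC (algebraMap (AdjoinRoot h₀) C₀ x) := by
    intro x
    induction x using AdjoinRoot.induction_on with
    | ih p =>
      show lk (AdjoinRoot.lift _ _ _ (AdjoinRoot.mk h₀ p)) = mk₀ p
      rw [AdjoinRoot.lift_mk, Polynomial.hom_eval₂]
      conv_rhs => rw [← Polynomial.eval₂_C_X (p := p), Polynomial.hom_eval₂]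
      congr 1
      · refine RingHom.ext fun a => ?_
        show lk (AdjoinRoot.of h (MvPolynomial.map (algebraMap R k) a)) = mk₀ (C a)
        rw [AdjoinRoot.lift_of]; exact hck a
      · exact AdjoinRoot.lift_root _
  let G : L →+* k ⊗[R] C₀ := IsLocalization.Away.lift (AdjoinRoot.of h (MvPolynomial.map (algebraMap R k) s))
    (g := lk) (by
      rw [← hm₀, hlk]
      exact (IsLocalization.Away.algebraMap_isUnit (AdjoinRoot.of h₀ s)).map inC)
  have hleft : ∀ z : k, G (Ψ (z ⊗ₜ 1)) = z ⊗ₜ 1 := fun z => by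
    rw [Algebra.TensorProduct.lift_tmul, map_one, mul_one, IsScalarTower.coe_toAlgHom',
      IsScalarTower.algebraMap_apply k (AdjoinRoot h) L, IsLocalization.Away.lift_eq,
      AdjoinRoot.algebraMap_eq', RingHom.comp_apply, AdjoinRoot.lift_of]
    exact ck.commutes z
  have hright : ∀ c : C₀, G (toL c) = inC c := fun c => by
    refine RingHom.congr_fun (?_ : G.comp toL = inC.toRingHom) c
    refine IsLocalization.ringHom_ext (Submonoid.powers (AdjoinRoot.of h₀ s)) (RingHom.ext fun x => ?_)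
    show G (toL (algebraMap (AdjoinRoot h₀) C₀ x)) = _
    rw [IsLocalization.Away.lift_eq, RingHom.comp_apply, IsLocalization.Away.lift_eq]
    exact hlk x
  have hG : ∀ w, G (Ψ w) = w := fun w => by
    induction w using TensorProduct.induction_on with
    | zero => simp
    | add a b ha hb => rw [map_add, map_add, ha, hb]
    | tmul z c =>
      have e : (z ⊗ₜ[R] c : k ⊗[R] C₀) = (z ⊗ₜ 1) * inC c := by
        show _ = (z ⊗ₜ[R] (1 : C₀)) * ((1 : k) ⊗ₜ[R] c)
        rw [Algebra.TensorProduct.tmul_mul_tmul, mul_one, one_mul]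
      conv_lhs => rw [e, map_mul, map_mul, hleft]
      rw [e]
      congr 1
      show G (Ψ ((1 : k) ⊗ₜ[R] c)) = _
      rw [Algebra.TensorProduct.lift_tmul, map_one, one_mul]
      exact hright c
  exact Function.Injective.isDomain Ψ.toRingHom fun a b hab => by
    have h2 := congrArg G hab
    exact (hG a).symm.trans (h2.trans (hG b))

/-- Geometrically integral generic fibres spread, embedded case. -/
theorem exists_isDomain_fibres_of_injective {R : Type u} [CommRing R] [IsDomain R] (K : Type u) [Field K]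
    [Algebra R K] [IsFractionRing R K] [IsAlgClosed K] {B : Type u} [CommRing B] [Algebra R B]
    [Algebra.FiniteType R B] (F : Type u) [Field F] [Algebra K F] [Algebra.EssFiniteType K F]
    [Algebra R F] [IsScalarTower R K F] (ι : B →ₐ[R] F) (hι : Function.Injective ι)
    (hfrac : ∀ x : F, ∃ a b : B, ι b ≠ 0 ∧ x * ι b = ι a) :
    ∃ r : R, r ≠ 0 ∧ ∀ (k : Type u) [Field k] [Algebra R k], algebraMap R k r ≠ 0 →
      IsDomain (k ⊗[R] B) := by
  classical
  obtain ⟨d, t, θ, h₀, htinj, hm, hirr, hroot, hmin, hgood⟩ := exists_model K F (R := R)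
  obtain ⟨r₁, hr₁, hr₁'⟩ := exists_irreducible_spread K h₀ hm hirr
  obtain ⟨gens, hgens⟩ := (inferInstance : Algebra.FiniteType R B).1
  choose H b hb hHb using fun x : B => hgood (ι x)
  let s := ∏ x ∈ gens, b x
  have hs : s ≠ 0 := Finset.prod_ne_zero_iff.2 fun x _ => hb x
  let e₀ : AdjoinRoot h₀ →ₐ[R] F := AdjoinRoot.liftAlgHom h₀ (MvPolynomial.aeval t) θ hroot
  have he₀ : Function.Injective e₀ := by
    rw [injective_iff_map_eq_zero]
    intro z
    induction z using AdjoinRoot.induction_on with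
    | ih p =>
      intro hz
      rw [AdjoinRoot.liftAlgHom_mk] at hz
      rw [← AdjoinRoot.mk_leftInverse hm (AdjoinRoot.mk h₀ p), AdjoinRoot.modByMonicHom_mk]
      have : p %ₘ h₀ = 0 := hmin _ (degree_modByMonic_lt p hm) (by
        rw [modByMonic_eq_sub_mul_div p h₀, eval₂_sub, eval₂_mul, hroot, zero_mul, sub_zero]
        exact hz)
      rw [this, map_zero]
  have hes : e₀ (AdjoinRoot.of h₀ s) = MvPolynomial.aeval t s := AdjoinRoot.liftAlgHom_of h₀ _ _ _ _
  have hs0 : (MvPolynomial.aeval (R := R) t) s ≠ 0 := (map_ne_zero_iff _ htinj).2 hs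
  let C₀ := Localization.Away (AdjoinRoot.of h₀ s)
  let eC₀ : C₀ →+* F := IsLocalization.Away.lift (AdjoinRoot.of h₀ s) (g := e₀.toRingHom)
    (isUnit_iff_ne_zero.2 (hes.trans_ne hs0))
  have heC₀ : ∀ z, eC₀ (algebraMap _ C₀ z) = e₀ z := IsLocalization.Away.lift_eq _ _
  let eC : C₀ →ₐ[R] F :=
    { eC₀ with
      commutes' := fun r => by
        rw [IsScalarTower.algebraMap_apply R (AdjoinRoot h₀) C₀]
        exact (heC₀ _).trans (e₀.commutes r) }
  have heC : Function.Injective eC := by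
    rw [injective_iff_map_eq_zero]
    intro z hz
    obtain ⟨n, a, ha⟩ := IsLocalization.Away.surj (AdjoinRoot.of h₀ s) z
    have h1 := congrArg eC ha
    rw [map_mul, hz, zero_mul] at h1
    have h2 : a = 0 := he₀ (by rw [← heC₀]; exact h1.symm.trans (map_zero _).symm)
    rw [h2, map_zero] at ha
    exact ((IsLocalization.Away.algebraMap_isUnit (AdjoinRoot.of h₀ s)).pow n).mul_left_eq_zero.1 ha
  have hrange : ι.range ≤ eC.range := by
    rw [← Algebra.map_top, ← hgens, AlgHom.map_adjoin, Algebra.adjoin_le_iff]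
    rintro _ ⟨x, hx, rfl⟩
    have hu := IsLocalization.Away.algebraMap_isUnit (S := C₀) (AdjoinRoot.of h₀ s)
    obtain ⟨u, hu'⟩ := hu
    refine ⟨algebraMap _ C₀ (AdjoinRoot.mk h₀ (H x * C (∏ y ∈ gens.erase x, b y))) * ↑u⁻¹, ?_⟩
    apply mul_right_cancel₀ hs0
    show eC (algebraMap _ C₀ _ * ↑u⁻¹) * _ = ι x * _
    rw [← hes, ← heC₀ (AdjoinRoot.of h₀ s)]
    show eC _ * eC _ = ι x * eC _
    rw [← map_mul, mul_assoc, ← hu', Units.inv_mul, mul_one, hu']
    show eC₀ (algebraMap _ C₀ _) = ι x * eC₀ (algebraMap _ C₀ _)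
    rw [heC₀, heC₀, hes, AdjoinRoot.liftAlgHom_mk, show s = b x * ∏ y ∈ gens.erase x, b y from
      (Finset.mul_prod_erase _ _ hx).symm, map_mul, ← mul_assoc, eval₂_mul, eval₂_C]
    exact congrArg (· * MvPolynomial.aeval t (∏ y ∈ gens.erase x, b y)) (hHb x).symm
  let φ : B →ₐ[R] C₀ := (AlgEquiv.ofInjective eC heC).symm.toAlgHom.comp
    ((Subalgebra.inclusion hrange).comp ι.rangeRestrict)
  have hφ : ∀ x, eC (φ x) = ι x := fun x =>
    congrArg Subtype.val ((AlgEquiv.ofInjective eC heC).apply_symm_apply _)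
  choose aT bT hbT hT using fun j => hfrac (t j)
  obtain ⟨aθ, bθ, hbθ, hθ⟩ := hfrac θ
  obtain ⟨as, bs, hbs, hsinv⟩ := hfrac ((MvPolynomial.aeval (R := R) t) s)⁻¹
  let g := (∏ j, bT j) * bθ * bs
  have hg0 : ι g ≠ 0 := by
    simp only [g, map_mul, map_prod]
    exact mul_ne_zero (mul_ne_zero (Finset.prod_ne_zero_iff.2 fun j _ => hbT j) hbθ) hbs
  let Bg := Localization.Away g
  let eg₀ : Bg →+* F := IsLocalization.Away.lift g (g := ι.toRingHom) (isUnit_iff_ne_zero.2 hg0)
  let eg : Bg →ₐ[R] F :=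
    { eg₀ with
      commutes' := fun r => by
        rw [IsScalarTower.algebraMap_apply R B Bg]
        exact (IsLocalization.Away.lift_eq g _ _).trans (ι.commutes r) }
  have heg_eq : ∀ x, eg (algebraMap B Bg x) = ι x := fun x =>
    IsLocalization.Away.lift_eq (g := ι.toRingHom) g (isUnit_iff_ne_zero.2 hg0) x
  have heg : Function.Injective eg := by
    rw [injective_iff_map_eq_zero]
    intro z hz
    obtain ⟨n, a, ha⟩ := IsLocalization.Away.surj g z
    have h1 := congrArg eg ha
    rw [map_mul, hz, zero_mul, heg_eq] at h1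
    have h2 : a = 0 := hι (h1.symm.trans (map_zero _).symm)
    rw [h2, map_zero] at ha
    exact ((IsLocalization.Away.algebraMap_isUnit g).pow n).mul_left_eq_zero.1 ha
  have hquot : ∀ (x : F) (a c : B), ι c ≠ 0 → c ∣ g → x * ι c = ι a → x ∈ eg.range := fun x a c hc hdvd he => by
    obtain ⟨v, hv⟩ := hdvd
    obtain ⟨u, hu⟩ := IsLocalization.Away.algebraMap_isUnit (S := Bg) g
    refine ⟨algebraMap B Bg (a * v) * ↑u⁻¹, ?_⟩
    apply mul_right_cancel₀ hg0
    show eg (algebraMap B Bg (a * v) * ↑u⁻¹) * ι g = x * ι g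
    rw [← heg_eq g, ← map_mul, mul_assoc, ← hu, Units.inv_mul, mul_one, hu, heg_eq, heg_eq, hv,
      map_mul, map_mul, ← he, mul_assoc]
  have hCrange : eC.range ≤ eg.range := by
    have ht : ∀ p : MvPolynomial (Fin d) R, MvPolynomial.aeval t p ∈ eg.range := fun p => by
      induction p using MvPolynomial.induction_on with
      | C r => rw [MvPolynomial.aeval_C]; exact eg.range.algebraMap_mem r
      | add p q hp hq => rw [map_add]; exact add_mem hp hq
      | mul_X p i hp =>
        rw [map_mul, MvPolynomial.aeval_X]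
        exact mul_mem hp (hquot _ _ _ (hbT i)
          (dvd_mul_of_dvd_left (dvd_mul_of_dvd_left (Finset.dvd_prod_of_mem _ (Finset.mem_univ i)) _) _) (hT i))
    have hθ' : θ ∈ eg.range := hquot _ _ _ hbθ (dvd_mul_of_dvd_left (dvd_mul_left _ _) _) hθ
    have hs' : ((MvPolynomial.aeval (R := R) t) s)⁻¹ ∈ eg.range :=
      hquot _ _ _ hbs (dvd_mul_left _ _) hsinv
    rintro _ ⟨z, rfl⟩
    obtain ⟨n, a, ha⟩ := IsLocalization.Away.surj (AdjoinRoot.of h₀ s) z
    have h1 := congrArg eC₀ ha
    rw [map_mul, map_pow, heC₀, heC₀, hes] at h1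
    have h2 : eC₀ z = e₀ a * (((MvPolynomial.aeval (R := R) t) s)⁻¹) ^ n := by
      rw [← h1, mul_assoc, ← mul_pow, mul_inv_cancel₀ hs0, one_pow, mul_one]
    show eC₀ z ∈ eg.range
    rw [h2]
    refine mul_mem ?_ (pow_mem hs' n)
    induction a using AdjoinRoot.induction_on with
    | ih p =>
      rw [AdjoinRoot.liftAlgHom_mk, Polynomial.eval₂_eq_sum_range]
      exact sum_mem fun i _ => mul_mem (ht _) (pow_mem hθ' i)
  let χ : C₀ →ₐ[R] Bg := (AlgEquiv.ofInjective eg heg).symm.toAlgHom.comp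
    ((Subalgebra.inclusion hCrange).comp eC.rangeRestrict)
  have hχ : ∀ z, eg (χ z) = eC z := fun z =>
    congrArg Subtype.val ((AlgEquiv.ofInjective eg heg).apply_symm_apply _)
  have hχφ : ∀ x, χ (φ x) = algebraMap B Bg x := fun x => heg (by rw [hχ, hφ, heg_eq])
  obtain ⟨r₂, hr₂, hfree⟩ := exists_isAwayFree_of_finiteType (R := R) B (B ⧸ Ideal.span {g})
  haveI := hfree.free_baseChange
  obtain ⟨r₃, hr₃, hr₃'⟩ := exists_ne_zero_coeff hs
  refine ⟨r₁ * r₂ * r₃, mul_ne_zero (mul_ne_zero hr₁ hr₂) hr₃, fun k _ _ hk => ?_⟩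
  rw [map_mul, map_mul, mul_ne_zero_iff, mul_ne_zero_iff] at hk
  haveI : IsDomain (k ⊗[R] C₀) := isDomain_tensor_hypersurface h₀ hm s k (hr₁' k hk.1.1) (hr₃' k hk.2)
  have hreg : IsSMulRegular (k ⊗[R] B) ((1 : k) ⊗ₜ[R] g) :=
    GenericFibre.isSMulRegular_fiber k hk.1.2 fun a ha => ⟨0, by
      have h := congrArg ι ha
      rw [map_mul, map_zero] at h
      rw [pow_zero, one_smul]
      exact hι (((mul_eq_zero.1 h).resolve_left hg0).trans (map_zero _).symm)⟩
  let G := (1 : k) ⊗ₜ[R] g
  let Λ := Localization.Away G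
  let toΛ : Bg →+* Λ := IsLocalization.Away.lift g
    (g := (algebraMap (k ⊗[R] B) Λ).comp Algebra.TensorProduct.includeRight.toRingHom)
    (IsLocalization.Away.algebraMap_isUnit G)
  let toΛₐ : Bg →ₐ[R] Λ :=
    { toΛ with
      commutes' := fun r => by
        rw [IsScalarTower.algebraMap_apply R B Bg]
        refine (IsLocalization.Away.lift_eq g _ _).trans ?_
        rw [RingHom.comp_apply, IsScalarTower.algebraMap_apply R (k ⊗[R] B) Λ]
        exact congrArg _ ((Algebra.TensorProduct.includeRight : B →ₐ[R] k ⊗[R] B).commutes r) }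
  let Ψ : k ⊗[R] C₀ →ₐ[R] Λ := Algebra.TensorProduct.lift
    ((IsScalarTower.toAlgHom R (k ⊗[R] B) Λ).comp Algebra.TensorProduct.includeLeft) (toΛₐ.comp χ)
    fun _ _ => .all _ _
  let kφ : k ⊗[R] B →ₐ[R] k ⊗[R] C₀ := Algebra.TensorProduct.map (AlgHom.id R k) φ
  have hΨ : ∀ z, Ψ (kφ z) = algebraMap (k ⊗[R] B) Λ z := by
    refine DFunLike.congr_fun (?_ : Ψ.comp kφ = IsScalarTower.toAlgHom R (k ⊗[R] B) Λ)
    refine Algebra.TensorProduct.ext' fun c x => ?_
    show Ψ (c ⊗ₜ[R] φ x) = algebraMap _ Λ (c ⊗ₜ[R] x)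
    rw [Algebra.TensorProduct.lift_tmul]
    show algebraMap _ Λ (c ⊗ₜ[R] (1 : B)) * toΛ (χ (φ x)) = _
    rw [hχφ, IsLocalization.Away.lift_eq, RingHom.comp_apply, ← map_mul]
    show algebraMap _ Λ (c ⊗ₜ[R] (1 : B) * ((1 : k) ⊗ₜ[R] x)) = _
    rw [Algebra.TensorProduct.tmul_mul_tmul, mul_one, one_mul]
  refine Function.Injective.isDomain kφ.toRingHom fun a c hac => ?_
  have h1 : algebraMap (k ⊗[R] B) Λ a = algebraMap (k ⊗[R] B) Λ c := by
    rw [← hΨ, ← hΨ]; exact congrArg Ψ hac
  obtain ⟨⟨_, n, rfl⟩, hn⟩ := IsLocalization.exists_of_eq (M := Submonoid.powers G) h1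
  exact (hreg.pow n) hn

/-- Geometrically integral generic fibres spread. -/
theorem exists_isDomain_fibres {R : Type u} [CommRing R] [IsDomain R] (K : Type u) [Field K]
    [Algebra R K] [IsFractionRing R K] [IsAlgClosed K] (B : Type u) [CommRing B] [Algebra R B]
    [Algebra.FiniteType R B] [IsDomain (K ⊗[R] B)] :
    ∃ r : R, r ≠ 0 ∧ ∀ (k : Type u) [Field k] [Algebra R k], algebraMap R k r ≠ 0 →
      IsDomain (k ⊗[R] B) := by
  let F := FractionRing (K ⊗[R] B)
  let ι₁ : B →ₐ[R] K ⊗[R] B := Algebra.TensorProduct.includeRight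
  let T : Ideal B := RingHom.ker ι₁.toRingHom
  haveI : T.IsPrime := RingHom.ker_isPrime _
  let q : B →ₐ[R] B ⧸ T := Ideal.Quotient.mkₐ R T
  let ι' : (B ⧸ T) →ₐ[R] F :=
    (IsScalarTower.toAlgHom R (K ⊗[R] B) F).comp (Ideal.Quotient.liftₐ T ι₁ fun x hx => hx)
  have hι' : Function.Injective ι' :=
    (IsFractionRing.injective (K ⊗[R] B) F).comp (RingHom.lift_injective_of_ker_le_ideal T _ le_rfl)
  haveI : Algebra.EssFiniteType (K ⊗[R] B) F := Algebra.EssFiniteType.of_isLocalization F (nonZeroDivisors _)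
  haveI : Algebra.EssFiniteType K F := Algebra.EssFiniteType.comp K (K ⊗[R] B) F
  have hfrac : ∀ x : F, ∃ a b : B ⧸ T, ι' b ≠ 0 ∧ x * ι' b = ι' a := by
    have hel : ∀ z : K ⊗[R] B, ∃ (r : R) (a : B), r ≠ 0 ∧ algebraMap R (K ⊗[R] B) r * z = ι₁ a := by
      intro z
      obtain ⟨⟨a, r, hr⟩, ha⟩ := IsLocalizedModule.surj (nonZeroDivisors R) (TensorProduct.mk R K B 1) z
      exact ⟨r, a, nonZeroDivisors.ne_zero hr, by rw [← Algebra.smul_def]; exact ha⟩
    intro x
    obtain ⟨n, d, hd, rfl⟩ := IsFractionRing.div_surjective (A := K ⊗[R] B) x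
    obtain ⟨r₁, a₁, hr₁, e₁⟩ := hel n
    obtain ⟨r₂, a₂, hr₂, e₂⟩ := hel d
    have hne : ∀ r : R, r ≠ 0 → algebraMap R F r ≠ 0 := fun r hr => by
      rw [IsScalarTower.algebraMap_apply R K F]
      exact (_root_.map_ne_zero _).2 ((map_ne_zero_iff _ (IsFractionRing.injective R K)).2 hr)
    have hd0 : algebraMap (K ⊗[R] B) F d ≠ 0 :=
      IsFractionRing.to_map_ne_zero_of_mem_nonZeroDivisors hd
    have e₁' : ι' (q a₁) = algebraMap R F r₁ * algebraMap (K ⊗[R] B) F n := by
      show algebraMap (K ⊗[R] B) F (ι₁ a₁) = _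
      rw [← e₁, map_mul, ← IsScalarTower.algebraMap_apply]
    have e₂' : ι' (q a₂) = algebraMap R F r₂ * algebraMap (K ⊗[R] B) F d := by
      show algebraMap (K ⊗[R] B) F (ι₁ a₂) = _
      rw [← e₂, map_mul, ← IsScalarTower.algebraMap_apply]
    refine ⟨algebraMap R (B ⧸ T) r₂ * q a₁, algebraMap R (B ⧸ T) r₁ * q a₂, ?_, ?_⟩
    · rw [map_mul, AlgHom.commutes, e₂']
      exact mul_ne_zero (hne _ hr₁) (mul_ne_zero (hne _ hr₂) hd0)
    · rw [map_mul, map_mul, AlgHom.commutes, AlgHom.commutes, e₁', e₂']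
      rw [div_mul_eq_mul_div, div_eq_iff hd0]
      ring
  obtain ⟨r₀, hr₀, hdom⟩ := exists_isDomain_fibres_of_injective K F ι' hι' hfrac
  obtain ⟨f, hf, hfree⟩ := exists_isAwayFree_of_finiteType (R := R) B B
  haveI := hfree.free_baseChange
  refine ⟨r₀ * f, mul_ne_zero hr₀ hf, fun k _ _ hk => ?_⟩
  rw [map_mul, mul_ne_zero_iff] at hk
  haveI := hdom k hk.1
  refine Function.Injective.isDomain (Algebra.TensorProduct.map (AlgHom.id R k) q).toRingHom ?_
  rw [injective_iff_map_eq_zero]
  intro z hz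
  have hz' : z ∈ RingHom.ker (Algebra.TensorProduct.map (AlgHom.id R k) q) := hz
  rw [Algebra.TensorProduct.lTensor_ker q Ideal.Quotient.mk_surjective] at hz'
  have hmap : (RingHom.ker q).map (Algebra.TensorProduct.includeRight : B →ₐ[R] k ⊗[R] B) = ⊥ := by
    rw [Ideal.map_eq_bot_iff_le_ker]
    intro x hx
    have hxT : ι₁ x = 0 := (Ideal.Quotient.eq_zero_iff_mem.1 hx : x ∈ T)
    obtain ⟨⟨r, hr⟩, hrx⟩ := (IsLocalizedModule.eq_zero_iff (nonZeroDivisors R) (TensorProduct.mk R K B 1)).1 hxT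
    obtain ⟨n, hn⟩ := GenericFibre.torsion_of_free hf (nonZeroDivisors.ne_zero hr) hrx
    show (1 : k) ⊗ₜ[R] x = 0
    have h2 : algebraMap R k (f ^ n) • ((1 : k) ⊗ₜ[R] x) = 0 := by
      rw [algebraMap_smul, ← TensorProduct.tmul_smul, hn, TensorProduct.tmul_zero]
    exact (smul_eq_zero.1 h2).resolve_left (by rw [map_pow]; exact pow_ne_zero _ hk.2)
  rw [hmap] at hz'
  exact (Submodule.mem_bot _).1 hz'

end Groth.Agent.H7Flat.GeomInt
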