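import Mathlib.RingTheory.Jacobson.Ring
import Mathlib.FieldTheory.IsAlgClosed.Basic
import Mathlib.Algebra.MvPolynomial.Equiv
import Mathlib.Algebra.MvPolynomial.NoZeroDivisors
import Mathlib.RingTheory.Localization.BaseChange
import Mathlib.RingTheory.FiniteType
import Mathlib.RingTheory.FiniteStability
import Mathlib.Algebra.Polynomial.Monic

/-!
# Spreading out absolute irreducibility of a monic polynomial
-/

set_option autoImplicit false
set_option linter.style.haveILetI false

universe u

open Polynomial TensorProduct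

namespace Groth.Agent.H7Flat.GeomInt

variable {d : ℕ}

/-- Total degree of the coefficients of a monic factor. -/
theorem totalDegree_coeff_factor_le {k : Type u} [CommRing k] [IsDomain k]
    (f g : (MvPolynomial (Fin d) k)[X]) (hf : f.Monic) (hg : g.Monic) (i : ℕ) :
    (f.coeff i).totalDegree ≤ ((MvPolynomial.optionEquivLeft k (Fin d)).symm (f * g)).totalDegree := by
  let e := MvPolynomial.optionEquivLeft k (Fin d)
  have h1 := MvPolynomial.totalDegree_coeff_optionEquivLeft_le k (Fin d) (e.symm f) i
  rw [e.apply_symm_apply] at h1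
  refine h1.trans ?_
  show (e.symm f).totalDegree ≤ (e.symm (f * g)).totalDegree
  rw [map_mul, MvPolynomial.totalDegree_mul_of_isDomain]
  · exact Nat.le_add_right _ _
  · exact (map_ne_zero_iff _ e.symm.injective).2 hf.ne_zero
  · exact (map_ne_zero_iff _ e.symm.injective).2 hg.ne_zero

theorem optionEquivLeft_symm_C {k : Type u} [CommRing k] (a : MvPolynomial (Fin d) k) :
    (MvPolynomial.optionEquivLeft k (Fin d)).symm (C a) = MvPolynomial.rename some a := by
  induction a using MvPolynomial.induction_on with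
  | C r => rw [MvPolynomial.optionEquivLeft_symm_C_C, MvPolynomial.rename_C]
  | add p q hp hq => rw [map_add, map_add, hp, hq, map_add]
  | mul_X p i hp => rw [map_mul, map_mul, hp, map_mul, MvPolynomial.optionEquivLeft_symm_C_X, MvPolynomial.rename_X]

theorem totalDegree_symm_map_le {R k : Type u} [CommRing R] [CommRing k] (σ : R →+* k)
    (h : (MvPolynomial (Fin d) R)[X]) :
    ((MvPolynomial.optionEquivLeft k (Fin d)).symm (h.map (MvPolynomial.map σ))).totalDegree ≤
      ((MvPolynomial.optionEquivLeft R (Fin d)).symm h).totalDegree := by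
  have e : (MvPolynomial.optionEquivLeft k (Fin d)).symm (h.map (MvPolynomial.map σ)) =
      MvPolynomial.map σ ((MvPolynomial.optionEquivLeft R (Fin d)).symm h) := by
    induction h using Polynomial.induction_on' with
    | add p q hp hq => rw [Polynomial.map_add, map_add, hp, hq, map_add, map_add]
    | monomial n a =>
      rw [Polynomial.map_monomial, ← C_mul_X_pow_eq_monomial, ← C_mul_X_pow_eq_monomial, map_mul,
        map_mul, map_mul, map_pow, map_pow, map_pow, MvPolynomial.optionEquivLeft_symm_X,
        MvPolynomial.optionEquivLeft_symm_X, MvPolynomial.map_X,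
        optionEquivLeft_symm_C, optionEquivLeft_symm_C,
        MvPolynomial.map_rename]
  rw [e]
  exact Finset.sup_mono (MvPolynomial.support_map_subset _ _)

section generic

variable {R : Type u} [CommRing R] {M : Type*} [Fintype M] (mon : M → (Fin d →₀ ℕ))

/-- A monic polynomial with prescribed coefficients. -/
noncomputable def monicPoly {a : ℕ} (c : Fin a → M → R) : (MvPolynomial (Fin d) R)[X] :=
  X ^ a + ∑ i : Fin a, C (∑ m, MvPolynomial.monomial (mon m) (c i m)) * X ^ (i : ℕ)

theorem map_monicPoly {k : Type u} [CommRing k] (σ : R →+* k) {a : ℕ} (c : Fin a → M → R) :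
    (monicPoly mon c).map (MvPolynomial.map σ) = monicPoly mon fun i m => σ (c i m) := by
  simp [monicPoly, Polynomial.map_sum, MvPolynomial.map_monomial]

theorem natDegree_monicPoly [Nontrivial R] {a : ℕ} (c : Fin a → M → R) :
    (monicPoly mon c).Monic ∧ (monicPoly mon c).natDegree = a := by
  have h : (∑ i : Fin a, C (∑ m, MvPolynomial.monomial (mon m) (c i m)) * X ^ (i : ℕ) :
      (MvPolynomial (Fin d) R)[X]).degree < a := degree_sum_fin_lt _
  refine ⟨monic_X_pow_add h, ?_⟩
  rw [monicPoly, natDegree_eq_of_degree_eq_some]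
  rw [degree_add_eq_left_of_degree_lt (by rwa [degree_X_pow]), degree_X_pow]

end generic

/-- The exponents of total degree at most `D`. -/
theorem exists_eq_monicPoly {k : Type u} [CommRing k] (D : ℕ) {M : Type*} [Fintype M]
    (mon : M → (Fin d →₀ ℕ)) (hmon : Function.Injective mon)
    (hcov : ∀ v : Fin d →₀ ℕ, v.sum (fun _ e => e) ≤ D → ∃ m, mon m = v)
    (f : (MvPolynomial (Fin d) k)[X]) (hf : f.Monic) (hD : ∀ i, (f.coeff i).totalDegree ≤ D) :
    f = monicPoly mon fun (i : Fin f.natDegree) m => (f.coeff i).coeff (mon m) := by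
  classical
  conv_lhs => rw [hf.as_sum]
  rw [monicPoly, ← Fin.sum_univ_eq_sum_range fun i => C (f.coeff i) * X ^ i]
  congr 1
  refine Finset.sum_congr rfl fun i _ => ?_
  congr 2
  refine MvPolynomial.ext _ _ fun v => ?_
  rw [MvPolynomial.coeff_sum]
  by_cases hv : ∃ m, mon m = v
  · obtain ⟨m, rfl⟩ := hv
    rw [Finset.sum_eq_single m (fun b _ hb => by
      rw [MvPolynomial.coeff_monomial, if_neg fun h => hb (hmon h)]) (by simp),
      MvPolynomial.coeff_monomial, if_pos rfl]
  · rw [Finset.sum_eq_zero fun b _ => by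
      rw [MvPolynomial.coeff_monomial, if_neg fun h => hv ⟨b, h⟩]]
    by_contra hne
    exact hv (hcov v ((MvPolynomial.le_totalDegree (MvPolynomial.mem_support_iff.2 hne)).trans (hD i)))

/-- A finitely generated algebra without rational point over an algebraically closed fraction field. -/
theorem exists_ne_zero_smul_one_eq_zero {R K : Type u} [CommRing R] [IsDomain R] [Field K] [Algebra R K]
    [IsFractionRing R K] [IsAlgClosed K] (A : Type u) [CommRing A] [Algebra R A] [Algebra.FiniteType R A]
    (h : IsEmpty (A →ₐ[R] K)) : ∃ r : R, r ≠ 0 ∧ r • (1 : A) = 0 := by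
  have h1 : Subsingleton (K ⊗[R] A) := by
    by_contra hc
    rw [not_subsingleton_iff_nontrivial] at hc
    obtain ⟨m, hm⟩ := Ideal.exists_maximal (K ⊗[R] A)
    letI := Ideal.Quotient.field m
    haveI : Module.Finite K ((K ⊗[R] A) ⧸ m) := finite_of_finite_type_of_isJacobsonRing _ _
    have hb := IsAlgClosed.algebraMap_bijective_of_isIntegral (k := K) (K := (K ⊗[R] A) ⧸ m)
    let e := AlgEquiv.ofBijective (Algebra.ofId K ((K ⊗[R] A) ⧸ m)) hb
    exact h.false (((e.symm.toAlgHom.comp (Ideal.Quotient.mkₐ K m)).restrictScalars R).comp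
      Algebra.TensorProduct.includeRight)
  have h2 : (TensorProduct.mk R K A 1) (1 : A) = 0 := Subsingleton.elim _ _
  obtain ⟨⟨r, hr⟩, hr1⟩ := (IsLocalizedModule.eq_zero_iff (nonZeroDivisors R) (TensorProduct.mk R K A 1)).1 h2
  exact ⟨r, nonZeroDivisors.ne_zero hr, hr1⟩

/-- Absolute irreducibility of a monic polynomial spreads out. -/
theorem exists_irreducible_spread {R : Type u} [CommRing R] [IsDomain R] (K : Type u) [Field K]
    [Algebra R K] [IsFractionRing R K] [IsAlgClosed K]
    (h₀ : (MvPolynomial (Fin d) R)[X]) (hmon₀ : h₀.Monic)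
    (hirr : Irreducible (h₀.map (MvPolynomial.map (algebraMap R K)))) :
    ∃ r : R, r ≠ 0 ∧ ∀ (k : Type u) [Field k] [Algebra R k], algebraMap R k r ≠ 0 →
      Irreducible (h₀.map (MvPolynomial.map (algebraMap R k))) := by
  classical
  set n := h₀.natDegree with hn
  have hn0 : 0 < n := by
    refine Nat.pos_of_ne_zero fun h => hirr.not_isUnit ?_
    rw [hmon₀.natDegree_eq_zero.1 h, Polynomial.map_one]
    exact isUnit_one
  set D := ((MvPolynomial.optionEquivLeft R (Fin d)).symm h₀).totalDegree with hD
  let M := {v : Fin d → Fin (D + 1) // ∑ j, (v j : ℕ) ≤ D}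
  let mon : M → (Fin d →₀ ℕ) := fun v => Finsupp.equivFunOnFinite.symm fun j => (v.1 j : ℕ)
  have hmoninj : Function.Injective mon := fun v w h => Subtype.ext (funext fun j => Fin.ext (by
    simpa [mon] using congrArg (fun z : Fin d →₀ ℕ => z j) h))
  have hcov : ∀ v : Fin d →₀ ℕ, v.sum (fun _ e => e) ≤ D → ∃ m, mon m = v := by
    intro v hv
    rw [Finsupp.sum_fintype _ _ (fun _ => rfl)] at hv
    refine ⟨⟨fun j => ⟨v j, Nat.lt_succ_of_le ((Finset.single_le_sum (fun i _ => Nat.zero_le (v i))
      (Finset.mem_univ j)).trans hv)⟩, hv⟩, ?_⟩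
    ext j; simp [mon]
  have key : ∀ a : ℕ, 1 ≤ a → a < n → ∃ r : R, r ≠ 0 ∧ ∀ (k : Type u) [Field k] [Algebra R k],
      algebraMap R k r ≠ 0 → ∀ (c₁ : Fin a → M → k) (c₂ : Fin (n - a) → M → k),
      monicPoly mon c₁ * monicPoly mon c₂ ≠ h₀.map (MvPolynomial.map (algebraMap R k)) := by
    intro a ha han
    let U := MvPolynomial ((Fin a × M) ⊕ (Fin (n - a) × M)) R
    let g₁ : (MvPolynomial (Fin d) U)[X] := monicPoly mon fun i m => MvPolynomial.X (.inl (i, m))
    let g₂ : (MvPolynomial (Fin d) U)[X] := monicPoly mon fun i m => MvPolynomial.X (.inr (i, m))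
    let E := g₁ * g₂ - h₀.map (MvPolynomial.map (algebraMap R U))
    let J : Ideal U := Ideal.span {c | ∃ i v, MvPolynomial.coeff v (E.coeff i) = c}
    have heval : ∀ (k : Type u) [CommRing k] (σ : U →+* k),
        E.map (MvPolynomial.map σ) =
          monicPoly mon (fun i m => σ (MvPolynomial.X (.inl (i, m)))) *
            monicPoly mon (fun i m => σ (MvPolynomial.X (.inr (i, m)))) -
          h₀.map (MvPolynomial.map (σ.comp (algebraMap R U))) := by
      intro k _ σ
      simp only [E, g₁, g₂, Polynomial.map_sub, Polynomial.map_mul, map_monicPoly, Polynomial.map_map]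
      congr 3
      exact RingHom.ext fun p => MvPolynomial.map_map _ _ p
    have hJ : ∀ (k : Type u) [CommRing k] (σ : U →+* k),
        E.map (MvPolynomial.map σ) = 0 → J ≤ RingHom.ker σ := by
      intro k _ σ h0
      refine Ideal.span_le.2 ?_
      rintro _ ⟨i, v, rfl⟩
      have := congrArg (fun p => MvPolynomial.coeff v (p.coeff i)) h0
      simpa [Polynomial.coeff_map, MvPolynomial.coeff_map] using this
    have hempty : IsEmpty ((U ⧸ J) →ₐ[R] K) := ⟨fun φ => by
      let σ : U →+* K := φ.toRingHom.comp (Ideal.Quotient.mk J)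
      have h0 : E.map (MvPolynomial.map σ) = 0 := by
        refine Polynomial.ext fun i => MvPolynomial.ext _ _ fun v => ?_
        rw [Polynomial.coeff_map, MvPolynomial.coeff_map, Polynomial.coeff_zero, MvPolynomial.coeff_zero]
        show φ (Ideal.Quotient.mk J _) = 0
        rw [Ideal.Quotient.eq_zero_iff_mem.2 (show MvPolynomial.coeff v (E.coeff i) ∈ J from
          Ideal.subset_span ⟨i, v, rfl⟩), map_zero]
      rw [heval, sub_eq_zero, show σ.comp (algebraMap R U) = algebraMap R K from
        RingHom.ext fun r => φ.commutes r] at h0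
      obtain ⟨h1m, h1d⟩ := natDegree_monicPoly mon fun i m => σ (MvPolynomial.X (.inl (i, m)))
      obtain ⟨h2m, h2d⟩ := natDegree_monicPoly mon fun i m => σ (MvPolynomial.X (.inr (i, m)))
      rcases hirr.isUnit_or_isUnit h0.symm with hu | hu
      · rw [h1m.eq_one_of_isUnit hu, natDegree_one] at h1d; omega
      · rw [h2m.eq_one_of_isUnit hu, natDegree_one] at h2d; omega⟩
    obtain ⟨r, hr, hr1⟩ := exists_ne_zero_smul_one_eq_zero (U ⧸ J) hempty
    refine ⟨r, hr, fun k _ _ hrk c₁ c₂ heq => hrk ?_⟩
    let σ : U →ₐ[R] k := MvPolynomial.aeval (Sum.elim (fun p => c₁ p.1 p.2) fun p => c₂ p.1 p.2)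
    have hσ : E.map (MvPolynomial.map σ.toRingHom) = 0 := by
      rw [heval, sub_eq_zero, show σ.toRingHom.comp (algebraMap R U) = algebraMap R k from
        RingHom.ext fun r => σ.commutes r]
      convert heq using 2 <;> · congr 1; ext i m; exact MvPolynomial.aeval_X _ _
    let φ : U ⧸ J →ₐ[R] k := Ideal.Quotient.liftₐ J σ fun x hx => hJ k σ.toRingHom hσ hx
    have := congrArg φ hr1
    rwa [map_zero, map_smul, map_one, ← Algebra.algebraMap_eq_smul_one] at this
  choose! r hr hr' using key
  refine ⟨∏ a ∈ Finset.Ico 1 n, r a, Finset.prod_ne_zero_iff.2 fun a ha =>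
    hr a (Finset.mem_Ico.1 ha).1 (Finset.mem_Ico.1 ha).2, fun k _ _ hk => ?_⟩
  rw [map_prod, Finset.prod_ne_zero_iff] at hk
  set h := h₀.map (MvPolynomial.map (algebraMap R k)) with hh
  have hm : h.Monic := hmon₀.map _
  have hdeg : h.natDegree = n := hmon₀.natDegree_map _
  refine hm.irreducible_iff_natDegree'.2 ⟨fun h1 => ?_, fun f g hf hg hfg hgd => ?_⟩
  · rw [h1, natDegree_one] at hdeg; omega
  · have hsum : f.natDegree + g.natDegree = n := by rw [← hf.natDegree_mul hg, hfg, hdeg]
    rw [hdeg, Finset.mem_Ioc] at hgd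
    have hfa : 1 ≤ f.natDegree ∧ f.natDegree < n := by omega
    have hgn : g.natDegree = n - f.natDegree := by omega
    have hle : ((MvPolynomial.optionEquivLeft k (Fin d)).symm h).totalDegree ≤ D :=
      totalDegree_symm_map_le (algebraMap R k) h₀
    have hbf := exists_eq_monicPoly D mon hmoninj hcov f hf fun i =>
      (totalDegree_coeff_factor_le f g hf hg i).trans (hfg.symm ▸ hle)
    have hbg := exists_eq_monicPoly D mon hmoninj hcov g hg fun i =>
      (totalDegree_coeff_factor_le g f hg hf i).trans ((mul_comm g f).trans hfg ▸ hle)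
    refine hr' f.natDegree hfa.1 hfa.2 k (hk _ (Finset.mem_Ico.2 hfa))
      (fun i m => (f.coeff i).coeff (mon m)) (fun i m => (g.coeff i).coeff (mon m)) ?_
    have hbg' : g = monicPoly mon fun (i : Fin (n - f.natDegree)) m => (g.coeff i).coeff (mon m) := by
      rw [← hgn]; exact hbg
    rw [← hbf, ← hbg']
    exact hfg

end Groth.Agent.H7Flat.GeomInt
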