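import Mathlib.Topology.Irreducible
import Mathlib.Topology.Connected.Clopen
import Mathlib.Data.Set.Card

/-!
# Counting components from a finite irreducible closed cover
-/

set_option autoImplicit false

universe u v

open Set

namespace Groth.Agent.H7Flat.GeomInt

/-- A finite cover by closed irreducible sets without inclusions. -/
structure IsCompCover {Z : Type u} [TopologicalSpace Z] {ι : Type v} (D : ι → Set Z) : Prop where
  isClosed : ∀ i, IsClosed (D i)
  isIrreducible : ∀ i, IsIrreducible (D i)
  cover : ∀ z, ∃ i, z ∈ D i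
  eq_of_subset : ∀ i j, D i ⊆ D j → i = j

variable {Z : Type u} [TopologicalSpace Z] {ι : Type v} [Finite ι] {D : ι → Set Z}

theorem IsCompCover.exists_subset (h : IsCompCover D) {s : Set Z} (hs : IsIrreducible s) :
    ∃ i, s ⊆ D i := by
  classical
  haveI := Fintype.ofFinite ι
  obtain ⟨_, ht, hst⟩ := isIrreducible_iff_sUnion_isClosed.1 hs (Finset.univ.image D)
    (fun t ht => by
      obtain ⟨i, -, rfl⟩ := Finset.mem_image.1 ht
      exact h.isClosed i)
    (fun z _ => by
      obtain ⟨i, hi⟩ := h.cover z
      exact Set.mem_sUnion.2 ⟨D i, by simp, hi⟩)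
  obtain ⟨i, -, rfl⟩ := Finset.mem_image.1 ht
  exact ⟨i, hst⟩

theorem IsCompCover.irreducibleComponents_eq (h : IsCompCover D) :
    irreducibleComponents Z = Set.range D := by
  ext s
  constructor
  · intro hs
    obtain ⟨i, hi⟩ := h.exists_subset hs.1
    exact ⟨i, Set.Subset.antisymm (hs.2 (h.isIrreducible i) hi) hi⟩
  · rintro ⟨i, rfl⟩
    refine ⟨h.isIrreducible i, fun t ht hit => ?_⟩
    obtain ⟨j, hj⟩ := h.exists_subset ht
    obtain rfl := h.eq_of_subset i j (hit.trans hj)
    exact hj

theorem IsCompCover.encard_irreducibleComponents (h : IsCompCover D) :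
    (irreducibleComponents Z).encard = ENat.card ι := by
  rw [h.irreducibleComponents_eq, ← Set.image_univ, Function.Injective.encard_image, Set.encard_univ]
  exact fun i j hij => h.eq_of_subset i j hij.le

theorem IsCompCover.card_connectedComponents (h : IsCompCover D) (R : ι → ι → Prop)
    (hR : ∀ i j, R i j ↔ (D i ∩ D j).Nonempty) :
    ENat.card (ConnectedComponents Z) = ENat.card (Quot R) := by
  have hpre : ∀ i, IsPreconnected (D i) := fun i => (h.isIrreducible i).isPreirreducible.isPreconnected
  let F : ι → ConnectedComponents Z := fun i => ConnectedComponents.mk (h.isIrreducible i).1.some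
  have hF : ∀ i z, z ∈ D i → ConnectedComponents.mk z = F i := fun i z hz =>
    ConnectedComponents.coe_eq_coe'.2 ((hpre i).subset_connectedComponent (h.isIrreducible i).1.some_mem hz)
  let G : Quot R → ConnectedComponents Z := Quot.lift F fun i j hij => by
    obtain ⟨z, hzi, hzj⟩ := (hR i j).1 hij
    exact (hF i z hzi).symm.trans (hF j z hzj)
  have hsurj : Function.Surjective G := fun c => by
    obtain ⟨z, rfl⟩ := ConnectedComponents.surjective_coe c
    obtain ⟨i, hi⟩ := h.cover z
    exact ⟨Quot.mk R i, (hF i z hi).symm⟩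
  have hinj : Function.Injective G := by
    intro a b hab
    induction a using Quot.ind with
    | mk i =>
    induction b using Quot.ind with
    | mk j =>
    let S := {l : ι | Quot.mk R l = Quot.mk R i}
    let U : Set Z := ⋃ l ∈ S, D l
    have hU : IsClopen U := by
      refine ⟨(Set.toFinite S).isClosed_biUnion fun l _ => h.isClosed l, ?_⟩
      have : U = (⋃ l ∈ Sᶜ, D l)ᶜ := by
        ext z
        constructor
        · rintro hz hz'
          obtain ⟨l, hl, hzl⟩ := Set.mem_iUnion₂.1 hz
          obtain ⟨m, hm, hzm⟩ := Set.mem_iUnion₂.1 hz'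
          exact hm ((Quot.sound ((hR m l).2 ⟨z, hzm, hzl⟩)).trans hl)
        · intro hz
          obtain ⟨l, hl⟩ := h.cover z
          refine Set.mem_iUnion₂.2 ⟨l, ?_, hl⟩
          by_contra hc
          exact hz (Set.mem_iUnion₂.2 ⟨l, hc, hl⟩)
      rw [this]
      exact ((Set.toFinite Sᶜ).isClosed_biUnion fun l _ => h.isClosed l).isOpen_compl
    have hij : F i = F j := hab
    have hzU : (h.isIrreducible j).1.some ∈ U :=
      hU.connectedComponent_subset (Set.mem_iUnion₂.2 ⟨i, rfl, (h.isIrreducible i).1.some_mem⟩)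
        (ConnectedComponents.coe_eq_coe'.1 hij.symm)
    obtain ⟨l, hl, hzl⟩ := Set.mem_iUnion₂.1 hzU
    exact hl.symm.trans (Quot.sound ((hR l j).2 ⟨_, hzl, (h.isIrreducible j).1.some_mem⟩))
  exact (ENat.card_congr (Equiv.ofBijective G ⟨hinj, hsurj⟩)).symm

end Groth.Agent.H7Flat.GeomInt
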