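import Groth.Agent.H7Flat.GeomInt.Domain
import Groth.Agent.H7Flat.GeomInt.Topology
import Groth.Agent.H7Flat.GenericFibreScheme
import Mathlib.AlgebraicGeometry.PullbackCarrier
import Mathlib.AlgebraicGeometry.Morphisms.QuasiCompact
import Mathlib.RingTheory.Nilpotent.Lemmas

/-!
# Components of the fibres near a geometric generic point
-/

set_option autoImplicit false
set_option linter.style.haveILetI false
set_option backward.isDefEq.respectTransparency false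

universe u

open CategoryTheory CategoryTheory.Limits AlgebraicGeometry TensorProduct

namespace Groth.Agent.H7Flat.GeomInt

variable {R : Type u} [CommRing R] [IsDomain R]

/-- Finitely many primes over the generic point dominate all primes near it. -/
theorem exists_generic_primes (A : Type u) [CommRing A] [Algebra R A] [Algebra.FiniteType R A] :
    ∃ (S : Finset (PrimeSpectrum A)) (r : R), r ≠ 0 ∧
      (∀ T ∈ S, T.asIdeal.comap (algebraMap R A) = ⊥) ∧
      ∀ q : PrimeSpectrum A, algebraMap R A r ∉ q.asIdeal → ∃ T ∈ S, T ≤ q := by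
  classical
  let K := FractionRing R
  haveI : IsNoetherianRing (K ⊗[R] A) := Algebra.FiniteType.isNoetherianRing K _
  let incl : A →ₐ[R] K ⊗[R] A := Algebra.TensorProduct.includeRight
  let S : Finset (PrimeSpectrum A) :=
    (minimalPrimes.finite_of_isNoetherianRing (K ⊗[R] A)).toFinset.attach.image fun (P : {x // x ∈ (minimalPrimes.finite_of_isNoetherianRing (K ⊗[R] A)).toFinset}) =>
      ⟨(P.1 : Ideal (K ⊗[R] A)).comap incl.toRingHom,
        haveI : P.1.IsPrime := ((Set.Finite.mem_toFinset _).1 P.2).1.1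
        Ideal.comap_isPrime _ _⟩
  have hel : ∀ z : K ⊗[R] A, ∃ (r : R) (a : A), r ≠ 0 ∧ algebraMap R (K ⊗[R] A) r * z = incl a := by
    intro z
    obtain ⟨⟨a, r, hr⟩, ha⟩ := IsLocalizedModule.surj (nonZeroDivisors R) (TensorProduct.mk R K A 1) z
    exact ⟨r, a, nonZeroDivisors.ne_zero hr, by rw [← Algebra.smul_def]; exact ha⟩
  obtain ⟨gens, hgens⟩ := IsNoetherian.noetherian (nilradical (K ⊗[R] A))
  choose rz az hrz haz using hel
  let J : Ideal A := Ideal.span ↑(gens.image az)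
  have hnil : ∀ z ∈ gens, ∃ (c : R) (m : ℕ), c ≠ 0 ∧ c • (az z) ^ m = 0 := by
    intro z hz
    have h1 : z ∈ nilradical (K ⊗[R] A) := hgens ▸ Ideal.subset_span hz
    obtain ⟨m, hm⟩ : IsNilpotent (incl (az z)) := by
      rw [← haz]; exact (Commute.all _ _).isNilpotent_mul_left (mem_nilradical.1 h1)
    rw [← map_pow] at hm
    obtain ⟨⟨c, hc⟩, hcz⟩ := (IsLocalizedModule.eq_zero_iff (nonZeroDivisors R) (TensorProduct.mk R K A 1)).1 hm
    exact ⟨c, m, nonZeroDivisors.ne_zero hc, hcz⟩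
  choose! c m hc hcm using hnil
  obtain ⟨f, hf, hfree⟩ := exists_isAwayFree_of_finiteType (R := R) (A ⧸ J) (A ⧸ J)
  haveI := hfree.free_baseChange
  refine ⟨S, f * ∏ z ∈ gens, c z, mul_ne_zero hf (Finset.prod_ne_zero_iff.2 hc), ?_, fun q hq => ?_⟩
  · intro T hT
    obtain ⟨⟨P, hP⟩, -, rfl⟩ := Finset.mem_image.1 hT
    haveI := ((Set.Finite.mem_toFinset _).1 hP).1.1
    refine eq_bot_iff.2 fun r hr => Ideal.mem_bot.2 ?_
    by_contra hne
    have hu : IsUnit (algebraMap R (K ⊗[R] A) r) := by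
      rw [IsScalarTower.algebraMap_apply R K (K ⊗[R] A)]
      exact ((map_ne_zero_iff _ (IsFractionRing.injective R K)).2 hne).isUnit.map _
    refine (‹P.IsPrime›).ne_top (Ideal.eq_top_of_isUnit_mem _ ?_ hu)
    rw [← incl.commutes r]
    exact hr
  rw [map_mul, map_prod] at hq
  have hqf : algebraMap R A f ∉ q.asIdeal := fun h => hq (Ideal.mul_mem_right _ _ h)
  have hqc : ∀ z ∈ gens, algebraMap R A (c z) ∉ q.asIdeal := fun z hz h =>
    hq (Ideal.mul_mem_left _ _ (by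
      rw [← Finset.mul_prod_erase _ _ hz]; exact Ideal.mul_mem_right _ _ h))
  have hJ : J ≤ q.asIdeal := by
    refine Ideal.span_le.2 fun a ha => ?_
    obtain ⟨z, hz, rfl⟩ := Finset.mem_image.1 (Finset.mem_coe.1 ha)
    refine q.isPrime.mem_of_pow_mem (m z) ((q.isPrime.mem_or_mem ?_).resolve_left (hqc z hz))
    rw [← Algebra.smul_def, hcm z hz]
    exact zero_mem _
  have hle : S.inf PrimeSpectrum.asIdeal ≤ q.asIdeal := by
    intro a ha
    rw [Submodule.mem_finsetInf] at ha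
    have h1 : incl a ∈ nilradical (K ⊗[R] A) := by
      rw [nilradical, ← Ideal.sInf_minimalPrimes]
      refine Submodule.mem_sInf.2 fun P hP => ?_
      exact ha _ (Finset.mem_image.2
        ⟨⟨P, (Set.Finite.mem_toFinset _).2 hP⟩, Finset.mem_attach _ _, rfl⟩)
    have h2 : incl a ∈ J.map incl.toRingHom := by
      refine (?_ : nilradical (K ⊗[R] A) ≤ J.map incl.toRingHom) h1
      rw [← hgens]
      refine Ideal.span_le.2 fun z hz => ?_
      have hu : IsUnit (algebraMap R (K ⊗[R] A) (rz z)) := by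
        rw [IsScalarTower.algebraMap_apply R K (K ⊗[R] A)]
        exact ((map_ne_zero_iff _ (IsFractionRing.injective R K)).2 (hrz z)).isUnit.map _
      refine (Ideal.unit_mul_mem_iff_mem _ hu).1 ?_
      rw [haz]
      exact Ideal.mem_map_of_mem _ (Ideal.subset_span (Finset.mem_coe.2 (Finset.mem_image_of_mem az hz)))
    have h3 : (1 : K) ⊗ₜ[R] (Ideal.Quotient.mk J a) = 0 := by
      have hle' : J.map incl.toRingHom ≤
          RingHom.ker (Algebra.TensorProduct.map (AlgHom.id R K) (Ideal.Quotient.mkₐ R J)).toRingHom := by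
        refine Ideal.map_le_iff_le_comap.2 fun j hj => ?_
        show (1 : K) ⊗ₜ[R] (Ideal.Quotient.mk J j) = 0
        rw [Ideal.Quotient.eq_zero_iff_mem.2 hj, TensorProduct.tmul_zero]
      exact hle' h2
    obtain ⟨⟨d, hd⟩, hda⟩ :=
      (IsLocalizedModule.eq_zero_iff (nonZeroDivisors R) (TensorProduct.mk R K (A ⧸ J) 1)).1 h3
    obtain ⟨n, hn⟩ := GenericFibre.torsion_of_free hf (nonZeroDivisors.ne_zero hd) (show d • (Ideal.Quotient.mk J a) = 0 from hda)
    have h4 : f ^ n • a ∈ J := Ideal.Quotient.eq_zero_iff_mem.1 hn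
    rw [Algebra.smul_def, map_pow] at h4
    exact (q.isPrime.mem_or_mem (hJ h4)).resolve_left fun h => hqf (q.isPrime.mem_of_pow_mem n h)
  exact (Ideal.IsPrime.inf_le' q.isPrime).1 hle

/-- The closure of a point over the generic point is irreducible on nearby fibres, on an affine chart. -/
theorem exists_isIrreducible_chart (K : Type u) [Field K] [Algebra R K] [IsFractionRing R K] [IsAlgClosed K]
    {X : Scheme.{u}} (f : X ⟶ Spec (CommRingCat.of R)) [LocallyOfFiniteType f] {ξ : X}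
    (hξ : f ξ = (⊥ : PrimeSpectrum R)) {U : X.Opens} (hU : IsAffineOpen U) (hξU : ξ ∈ U) :
    ∃ r : R, r ≠ 0 ∧ ∀ (k : Type u) [Field k] [Algebra R k], algebraMap R k r ≠ 0 →
      IsIrreducible (pullback.fst f (Spec.map (CommRingCat.ofHom (algebraMap R k))) ⁻¹'
        (closure {ξ} ∩ (U : Set X))) := by
  let φ := Spec.preimage (hU.fromSpec ≫ f)
  letI : Algebra R Γ(X, U) := φ.hom.toAlgebra
  have hφ : Spec.map (CommRingCat.ofHom (algebraMap R Γ(X, U))) = hU.fromSpec ≫ f := Spec.map_preimage _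
  haveI : Algebra.FiniteType R Γ(X, U) := RingHom.finiteType_algebraMap.mp
    ((HasRingHomProperty.Spec_iff (P := @LocallyOfFiniteType)
      (φ := CommRingCat.ofHom (algebraMap R Γ(X, U)))).mp (hφ ▸ inferInstance))
  let T := (hU.primeIdealOf ⟨ξ, hξU⟩).asIdeal
  haveI : T.IsPrime := (hU.primeIdealOf ⟨ξ, hξU⟩).isPrime
  have hT : T.comap (algebraMap R Γ(X, U)) = ⊥ := by
    have h1 : Spec.map (CommRingCat.ofHom (algebraMap R Γ(X, U))) (hU.primeIdealOf ⟨ξ, hξU⟩) = (⊥ : PrimeSpectrum R) := by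
      rw [hφ, Scheme.Hom.comp_apply]
      exact (congrArg f (hU.fromSpec_primeIdealOf ⟨ξ, hξU⟩)).trans hξ
    exact congrArg PrimeSpectrum.asIdeal h1
  haveI : IsDomain (K ⊗[R] (Γ(X, U) ⧸ T)) := by
    haveI : IsLocalization (Algebra.algebraMapSubmonoid (Γ(X, U) ⧸ T) (nonZeroDivisors R)) ((Γ(X, U) ⧸ T) ⊗[R] K) :=
      IsLocalization.tensor K (nonZeroDivisors R)
    haveI : IsDomain ((Γ(X, U) ⧸ T) ⊗[R] K) := IsLocalization.isDomain_of_le_nonZeroDivisors _
        (M := Algebra.algebraMapSubmonoid (Γ(X, U) ⧸ T) (nonZeroDivisors R)) (by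
      rintro _ ⟨r, hr, rfl⟩
      refine mem_nonZeroDivisors_of_ne_zero fun h => nonZeroDivisors.ne_zero hr ?_
      rw [IsScalarTower.algebraMap_apply R Γ(X, U) (Γ(X, U) ⧸ T), Ideal.Quotient.algebraMap_eq,
        Ideal.Quotient.eq_zero_iff_mem, ← Ideal.mem_comap, hT] at h
      exact h)
    exact (Algebra.TensorProduct.comm R K (Γ(X, U) ⧸ T)).toMulEquiv.isDomain ((Γ(X, U) ⧸ T) ⊗[R] K)
  obtain ⟨r, hr, hdom⟩ := exists_isDomain_fibres (R := R) K (Γ(X, U) ⧸ T)
  refine ⟨r, hr, fun k _ _ hk => ?_⟩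
  haveI := hdom k hk
  haveI : IsDomain ((Γ(X, U) ⧸ T) ⊗[R] k) := (Algebra.TensorProduct.comm R (Γ(X, U) ⧸ T) k).toMulEquiv.isDomain (k ⊗[R] (Γ(X, U) ⧸ T))
  let a := Spec.map (CommRingCat.ofHom (algebraMap R k))
  let i : Spec (CommRingCat.of (Γ(X, U) ⧸ T)) ⟶ X := Spec.map (CommRingCat.ofHom (Ideal.Quotient.mk T)) ≫ hU.fromSpec
  have hi : i ≫ f = Spec.map (CommRingCat.ofHom (algebraMap R (Γ(X, U) ⧸ T))) := by
    rw [Category.assoc, ← hφ, ← Spec.map_comp]
    rfl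
  have hrange : Set.range i = closure {ξ} ∩ (U : Set X) := by
    rw [Scheme.Hom.comp_base, TopCat.coe_comp, Set.range_comp]
    show hU.fromSpec '' Set.range (PrimeSpectrum.comap (Ideal.Quotient.mk T)) = _
    rw [range_comap_of_surjective _ _ Ideal.Quotient.mk_surjective, Ideal.mk_ker]
    ext x
    constructor
    · rintro ⟨q, hq, rfl⟩
      refine ⟨?_, hU.range_fromSpec.le ⟨q, rfl⟩⟩
      rw [← specializes_iff_mem_closure]
      exact (specializes_of_eq (hU.fromSpec_primeIdealOf ⟨ξ, hξU⟩).symm).trans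
        (((PrimeSpectrum.le_iff_specializes (hU.primeIdealOf ⟨ξ, hξU⟩) q).1 hq).map hU.fromSpec.continuous)
    · rintro ⟨hx, hxU⟩
      obtain ⟨q, rfl⟩ := hU.range_fromSpec.ge hxU
      rw [← specializes_iff_mem_closure] at hx
      have hx : hU.fromSpec (hU.primeIdealOf ⟨ξ, hξU⟩) ⤳ hU.fromSpec q :=
        (specializes_of_eq (hU.fromSpec_primeIdealOf ⟨ξ, hξU⟩)).trans hx
      rw [hU.fromSpec.isEmbedding.specializes_iff] at hx
      exact ⟨q, (PrimeSpectrum.le_iff_specializes _ q).2 hx, rfl⟩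
  let m := pullback.map (Spec.map (CommRingCat.ofHom (algebraMap R (Γ(X, U) ⧸ T)))) a f a i (𝟙 _) (𝟙 _)
    (by rw [Category.comp_id, hi]) (by simp)
  have hm : Set.range m = pullback.fst f a ⁻¹' (closure {ξ} ∩ (U : Set X)) := by
    rw [Scheme.Pullback.range_map, hrange]
    simp
  let e : pullback (Spec.map (CommRingCat.ofHom (algebraMap R (Γ(X, U) ⧸ T)))) a ≅
      Spec (CommRingCat.of ((Γ(X, U) ⧸ T) ⊗[R] k)) := pullbackSpecIso R (Γ(X, U) ⧸ T) k
  rw [← hm, ← Set.image_univ]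
  refine IsIrreducible.image ?_ _ m.continuous.continuousOn
  haveI : IrreducibleSpace ↥(pullback (Spec.map (CommRingCat.ofHom (algebraMap R (Γ(X, U) ⧸ T)))) a) :=
    haveI : Nonempty ↥(pullback (Spec.map (CommRingCat.ofHom (algebraMap R (Γ(X, U) ⧸ T)))) a) :=
      e.hom.homeomorph.toEquiv.nonempty
  
    e.hom.homeomorph.isOpenEmbedding.irreducibleSpace
  exact IrreducibleSpace.isIrreducible_univ _

/-- Points over the generic point meet nearby fibres in every neighbourhood. -/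
theorem exists_nonempty_preimage (K : Type u) [Field K] [Algebra R K] [IsFractionRing R K] [IsAlgClosed K]
    {X : Scheme.{u}} (f : X ⟶ Spec (CommRingCat.of R)) [LocallyOfFiniteType f] {ξ : X}
    (hξ : f ξ = (⊥ : PrimeSpectrum R)) (O : X.Opens) (hξO : ξ ∈ O) :
    ∃ r : R, r ≠ 0 ∧ ∀ (k : Type u) [Field k] [Algebra R k], algebraMap R k r ≠ 0 →
      (pullback.fst f (Spec.map (CommRingCat.ofHom (algebraMap R k))) ⁻¹'
        (closure {ξ} ∩ (O : Set X))).Nonempty := by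
  obtain ⟨U, hU, hξU, hUO⟩ := exists_isAffineOpen_mem_and_subset (U := O) hξO
  obtain ⟨r, hr, h⟩ := exists_isIrreducible_chart K f hξ hU hξU
  exact ⟨r, hr, fun k _ _ hk => (h k hk).1.mono (Set.preimage_mono (Set.inter_subset_inter_right _ hUO))⟩

/-- A closed set missing the generic fibre misses the nearby fibres. -/
theorem exists_forall_apply_notMem {X : Scheme.{u}} (f : X ⟶ Spec (CommRingCat.of R)) [QuasiCompact f]
    {C : Set X} (hC : IsClosed C) (h : ∀ x ∈ C, f x ≠ (⊥ : PrimeSpectrum R)) :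
    ∃ r : R, r ≠ 0 ∧ ∀ x ∈ C, r ∈ (f x : PrimeSpectrum R).asIdeal := by
  classical
  haveI : CompactSpace X := QuasiCompact.compactSpace_of_compactSpace f
  obtain ⟨s, hs, hcov⟩ := isCompact_and_isOpen_iff_finite_and_eq_biUnion_affineOpens.mp
    ⟨isCompact_univ (X := X), isOpen_univ⟩
  have key : ∀ U : X.affineOpens, ∃ r : R, r ≠ 0 ∧ ∀ x ∈ C, x ∈ U.1 → r ∈ (f x : PrimeSpectrum R).asIdeal := by
    intro U
    let φ := Spec.preimage (U.2.fromSpec ≫ f)
    letI : Algebra R Γ(X, U.1) := φ.hom.toAlgebra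
    have hφ : Spec.map (CommRingCat.ofHom (algebraMap R Γ(X, U.1))) = U.2.fromSpec ≫ f := Spec.map_preimage _
    have hap : ∀ q, f (U.2.fromSpec q) = PrimeSpectrum.comap (algebraMap R Γ(X, U.1)) q := fun q => by
      rw [← Scheme.Hom.comp_apply, ← hφ]; rfl
    obtain ⟨J, hJ⟩ := (PrimeSpectrum.isClosed_iff_zeroLocus_ideal _).1 (hC.preimage U.2.fromSpec.continuous)
    obtain ⟨r, hr, hmem⟩ := GenericFibre.exists_forall_mem (R := R) J fun q hq hq' =>
      h (U.2.fromSpec q) (hJ.ge hq) ((hap q).trans (PrimeSpectrum.ext hq'))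
    refine ⟨r, hr, fun x hxC hxU => ?_⟩
    obtain ⟨q, rfl⟩ := U.2.range_fromSpec.ge hxU
    rw [hap]
    exact hmem q (hJ.le hxC)
  choose r hr hmem using key
  refine ⟨∏ U ∈ hs.toFinset, r U, Finset.prod_ne_zero_iff.2 fun U _ => hr U, fun x hx => ?_⟩
  obtain ⟨U, hU, hxU⟩ := Set.mem_iUnion₂.1 (hcov.le (Set.mem_univ x))
  rw [← Finset.mul_prod_erase _ _ (hs.mem_toFinset.2 hU)]
  exact Ideal.mul_mem_right _ _ (hmem U x hx hxU)

/-- The cover property, globally. -/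
theorem exists_generic_points {X : Scheme.{u}} (f : X ⟶ Spec (CommRingCat.of R)) [LocallyOfFiniteType f]
    [QuasiCompact f] :
    ∃ (S : Finset X) (r : R), r ≠ 0 ∧ (∀ ξ ∈ S, f ξ = (⊥ : PrimeSpectrum R)) ∧
      (∀ ξ ∈ S, ∀ ξ' ∈ S, ξ' ∈ closure ({ξ} : Set X) → ξ' = ξ) ∧
      ∀ x : X, r ∉ (f x : PrimeSpectrum R).asIdeal → ∃ ξ ∈ S, x ∈ closure ({ξ} : Set X) := by
  classical
  haveI : CompactSpace X := QuasiCompact.compactSpace_of_compactSpace f
  obtain ⟨s, hs, hcov⟩ := isCompact_and_isOpen_iff_finite_and_eq_biUnion_affineOpens.mp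
    ⟨isCompact_univ (X := X), isOpen_univ⟩
  have key : ∀ U : X.affineOpens, ∃ (S : Finset X) (r : R), r ≠ 0 ∧ (∀ ξ ∈ S, f ξ = (⊥ : PrimeSpectrum R)) ∧
      ∀ x ∈ U.1, r ∉ (f x : PrimeSpectrum R).asIdeal → ∃ ξ ∈ S, x ∈ closure ({ξ} : Set X) := by
    intro U
    let φ := Spec.preimage (U.2.fromSpec ≫ f)
    letI : Algebra R Γ(X, U.1) := φ.hom.toAlgebra
    have hφ : Spec.map (CommRingCat.ofHom (algebraMap R Γ(X, U.1))) = U.2.fromSpec ≫ f := Spec.map_preimage _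
    haveI : Algebra.FiniteType R Γ(X, U.1) := RingHom.finiteType_algebraMap.mp
      ((HasRingHomProperty.Spec_iff (P := @LocallyOfFiniteType)
        (φ := CommRingCat.ofHom (algebraMap R Γ(X, U.1)))).mp (hφ ▸ inferInstance))
    have hap : ∀ q, f (U.2.fromSpec q) = PrimeSpectrum.comap (algebraMap R Γ(X, U.1)) q := fun q => by
      rw [← Scheme.Hom.comp_apply, ← hφ]; rfl
    obtain ⟨S, r, hr, hS, hcov⟩ := exists_generic_primes (R := R) Γ(X, U.1)
    refine ⟨S.image fun T => U.2.fromSpec T, r, hr, ?_, fun x hxU hx => ?_⟩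
    · intro ξ hξ
      obtain ⟨T, hT, rfl⟩ := Finset.mem_image.1 hξ
      exact (hap T).trans (PrimeSpectrum.ext (hS T hT))
    · obtain ⟨q, rfl⟩ := U.2.range_fromSpec.ge hxU
      rw [hap] at hx
      obtain ⟨T, hT, hTq⟩ := hcov q hx
      refine ⟨_, Finset.mem_image_of_mem _ hT, ?_⟩
      rw [← specializes_iff_mem_closure]
      exact ((PrimeSpectrum.le_iff_specializes T q).1 hTq).map U.2.fromSpec.continuous
  choose S r hr hS hScov using key
  let S₀ := hs.toFinset.biUnion S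
  let S₁ := S₀.filter fun ξ => ∀ ξ' ∈ S₀, ξ' ⤳ ξ → ξ' = ξ
  have hmax : ∀ ξ ∈ S₀, ∃ ξ₁ ∈ S₁, ξ₁ ⤳ ξ := by
    intro ξ hξ
    let P := S₀.filter fun z => z ⤳ ξ
    obtain ⟨z, hz, hzmin⟩ : ∃ z ∈ P, ∀ w ∈ P, w ⤳ z → w = z := by
      letI := specializationOrder (X : Type u)
      obtain ⟨z, hz, hmz⟩ := P.exists_maximal ⟨ξ, Finset.mem_filter.2 ⟨hξ, specializes_refl _⟩⟩
      exact ⟨z, hz, fun w hw hwz => (hwz.antisymm (hmz hw hwz)).eq⟩
    refine ⟨z, Finset.mem_filter.2 ⟨(Finset.mem_filter.1 hz).1, fun w hw hwz => ?_⟩, (Finset.mem_filter.1 hz).2⟩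
    exact hzmin w (Finset.mem_filter.2 ⟨hw, hwz.trans (Finset.mem_filter.1 hz).2⟩) hwz
  refine ⟨S₁, ∏ U ∈ hs.toFinset, r U, Finset.prod_ne_zero_iff.2 fun U _ => hr U, ?_, ?_, ?_⟩
  · intro ξ hξ
    obtain ⟨U, -, hξU⟩ := Finset.mem_biUnion.1 (Finset.mem_filter.1 hξ).1
    exact hS U ξ hξU
  · intro ξ hξ ξ' hξ' hmem
    exact ((Finset.mem_filter.1 hξ').2 ξ (Finset.mem_filter.1 hξ).1 (specializes_iff_mem_closure.2 hmem)).symm
  · intro x hx
    obtain ⟨U, hU, hxU⟩ := Set.mem_iUnion₂.1 (hcov.le (Set.mem_univ x))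
    have hU' := hs.mem_toFinset.2 hU
    have hrU : r U ∉ (f x : PrimeSpectrum R).asIdeal := fun h => hx (by
      rw [← Finset.mul_prod_erase _ _ hU']; exact Ideal.mul_mem_right _ _ h)
    obtain ⟨ξ, hξ, hxξ⟩ := hScov U x hxU hrU
    obtain ⟨ξ₁, hξ₁, hsp⟩ := hmax ξ (Finset.mem_biUnion.2 ⟨U, hU', hξ⟩)
    exact ⟨ξ₁, hξ₁, specializes_iff_mem_closure.1 (hsp.trans (specializes_iff_mem_closure.2 hxξ))⟩

/-- Near a geometric generic point the fibres have the same numbers of components. -/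
theorem exists_counts (K : Type u) [Field K] [Algebra R K] [IsFractionRing R K] [IsAlgClosed K]
    {X : Scheme.{u}} (f : X ⟶ Spec (CommRingCat.of R)) [LocallyOfFiniteType f] [QuasiCompact f] :
    ∃ r : R, r ≠ 0 ∧ ∀ (k : Type u) [Field k] [Algebra R k], algebraMap R k r ≠ 0 →
      (irreducibleComponents ↥(pullback f (Spec.map (CommRingCat.ofHom (algebraMap R k))))).encard =
        (irreducibleComponents ↥(pullback f (Spec.map (CommRingCat.ofHom (algebraMap R K))))).encard ∧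
      ENat.card (_root_.ConnectedComponents ↥(pullback f (Spec.map (CommRingCat.ofHom (algebraMap R k))))) =
        ENat.card (_root_.ConnectedComponents ↥(pullback f (Spec.map (CommRingCat.ofHom (algebraMap R K))))) := by
  classical
  obtain ⟨S, r₀, hr₀, hS, hSmax, hScov⟩ := exists_generic_points f
  haveI : CompactSpace X := QuasiCompact.compactSpace_of_compactSpace f
  obtain ⟨s, hs, hcov⟩ := isCompact_and_isOpen_iff_finite_and_eq_biUnion_affineOpens.mp
    ⟨isCompact_univ (X := X), isOpen_univ⟩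
  haveI : Finite s := hs.to_subtype
  let Rel : S → S → Prop := fun ξ η' => ∃ p : X, f p = (⊥ : PrimeSpectrum R) ∧
    p ∈ closure {(ξ : X)} ∧ p ∈ closure {(η' : X)}
  -- irreducibility on every chart
  have h1 : ∀ (ξ : S) (U : s), ∃ r : R, r ≠ 0 ∧ ((ξ : X) ∈ U.1.1 →
      ∀ (k : Type u) [Field k] [Algebra R k], algebraMap R k r ≠ 0 →
      IsIrreducible (pullback.fst f (Spec.map (CommRingCat.ofHom (algebraMap R k))) ⁻¹'
        (closure {(ξ : X)} ∩ (U.1.1 : Set X)))) := by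
    intro ξ U
    by_cases h : (ξ : X) ∈ U.1.1
    · obtain ⟨r, hr, hk⟩ := exists_isIrreducible_chart K f (hS _ ξ.2) U.1.2 h
      exact ⟨r, hr, fun _ => hk⟩
    · exact ⟨1, one_ne_zero, fun h' => absurd h' h⟩
  have h2 : ∀ (ξ : S) (U V : s), ∃ r : R, r ≠ 0 ∧ ((ξ : X) ∈ U.1.1 → (ξ : X) ∈ V.1.1 →
      ∀ (k : Type u) [Field k] [Algebra R k], algebraMap R k r ≠ 0 →
      (pullback.fst f (Spec.map (CommRingCat.ofHom (algebraMap R k))) ⁻¹'
        (closure {(ξ : X)} ∩ ((U.1.1 ⊓ V.1.1 : X.Opens) : Set X))).Nonempty) := by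
    intro ξ U V
    by_cases h : (ξ : X) ∈ U.1.1 ⊓ V.1.1
    · obtain ⟨r, hr, hk⟩ := exists_nonempty_preimage K f (hS _ ξ.2) _ h
      exact ⟨r, hr, fun _ _ => hk⟩
    · exact ⟨1, one_ne_zero, fun ha hb => absurd ⟨ha, hb⟩ h⟩
  have h3 : ∀ ξ η' : S, ∃ r : R, r ≠ 0 ∧ (ξ ≠ η' →
      ∀ (k : Type u) [Field k] [Algebra R k], algebraMap R k r ≠ 0 →
      (pullback.fst f (Spec.map (CommRingCat.ofHom (algebraMap R k))) ⁻¹'
        (closure {(ξ : X)} ∩ (closure {(η' : X)})ᶜ)).Nonempty) := by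
    intro ξ η'
    by_cases h : ξ = η'
    · exact ⟨1, one_ne_zero, fun h' => absurd h h'⟩
    · obtain ⟨r, hr, hk⟩ := exists_nonempty_preimage K f (hS _ ξ.2) ⟨_, isClosed_closure.isOpen_compl⟩
        (fun hmem => h (Subtype.ext (hSmax _ η'.2 _ ξ.2 hmem)))
      exact ⟨r, hr, fun _ => hk⟩
  have h4 : ∀ ξ η' : S, ∃ r : R, r ≠ 0 ∧
      ∀ (k : Type u) [Field k] [Algebra R k], algebraMap R k r ≠ 0 →
      (Rel ξ η' ↔ (pullback.fst f (Spec.map (CommRingCat.ofHom (algebraMap R k))) ⁻¹'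
        (closure {(ξ : X)} ∩ closure {(η' : X)})).Nonempty) := by
    intro ξ η'
    by_cases h : Rel ξ η'
    · obtain ⟨p, hp, hp1, hp2⟩ := h
      obtain ⟨r, hr, hk⟩ := exists_nonempty_preimage K f hp ⊤ trivial
      refine ⟨r, hr, fun k _ _ hr' => iff_of_true ⟨p, hp, hp1, hp2⟩ ((hk k hr').mono ?_)⟩
      refine Set.preimage_mono fun x hx => ⟨?_, ?_⟩
      · exact closure_minimal (Set.singleton_subset_iff.2 hp1) isClosed_closure hx.1
      · exact closure_minimal (Set.singleton_subset_iff.2 hp2) isClosed_closure hx.1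
    · obtain ⟨r, hr, hmem⟩ := exists_forall_apply_notMem f (isClosed_closure.inter isClosed_closure)
        (C := closure {(ξ : X)} ∩ closure {(η' : X)}) fun x hx hbot => h ⟨x, hbot, hx.1, hx.2⟩
      refine ⟨r, hr, fun k _ _ hr' => iff_of_false h ?_⟩
      rintro ⟨z, hz⟩
      have h0 := hmem _ hz
      rw [← Scheme.Hom.comp_apply, pullback.condition, Scheme.Hom.comp_apply] at h0
      have hbot := Subsingleton.elim (α := PrimeSpectrum k)
        (pullback.snd f (Spec.map (CommRingCat.ofHom (algebraMap R k))) z) ⊥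
      rw [hbot] at h0
      exact hr' (Ideal.mem_bot.1 h0)
  choose r₁ hr₁ hk₁ using h1
  choose r₂ hr₂ hk₂ using h2
  choose r₃ hr₃ hk₃ using h3
  choose r₄ hr₄ hk₄ using h4
  haveI := Fintype.ofFinite s
  let tot := r₀ * (∏ ξ, ∏ U, r₁ ξ U) * (∏ ξ, ∏ U, ∏ V, r₂ ξ U V) * (∏ ξ, ∏ η', r₃ ξ η') * ∏ ξ, ∏ η', r₄ ξ η'
  have htot : tot ≠ 0 := by
    simp only [tot, ne_eq, mul_eq_zero, Finset.prod_eq_zero_iff, not_or, not_exists, not_and]
    exact ⟨⟨⟨⟨hr₀, fun a _ b _ => hr₁ a b⟩, fun a _ b _ c _ => hr₂ a b c⟩, fun a _ b _ => hr₃ a b⟩,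
      fun a _ b _ => hr₄ a b⟩
  have key : ∀ (k : Type u) [Field k] [Algebra R k], algebraMap R k tot ≠ 0 →
      ∃ D : S → Set ↥(pullback f (Spec.map (CommRingCat.ofHom (algebraMap R k)))),
        IsCompCover D ∧ ∀ i j, Rel i j ↔ (D i ∩ D j).Nonempty := by
    intro k _ _ hk
    simp only [tot, map_mul, map_prod, mul_ne_zero_iff, Finset.prod_ne_zero_iff] at hk
    obtain ⟨⟨⟨⟨hk0, hk1⟩, hk2⟩, hk3⟩, hk4⟩ := hk
    let π := pullback.fst f (Spec.map (CommRingCat.ofHom (algebraMap R k)))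
    refine ⟨fun ξ => π ⁻¹' closure {(ξ : X)}, ⟨fun ξ => isClosed_closure.preimage π.continuous,
      fun ξ => ?_, fun z => ?_, fun i j hij => ?_⟩, fun i j => ?_⟩
    · -- irreducible: glued from charts pairwise meeting
      have hcharts : ∀ z ∈ π ⁻¹' closure {(ξ : X)}, ∃ U : s, π z ∈ U.1.1 ∧ (ξ : X) ∈ U.1.1 := by
        intro z hz
        obtain ⟨U, hU, hzU⟩ := Set.mem_iUnion₂.1 (hcov.le (Set.mem_univ (π z)))
        exact ⟨⟨U, hU⟩, hzU, (specializes_iff_mem_closure.2 hz).mem_open U.1.2 hzU⟩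
      obtain ⟨U₀, hU₀, hξ₀⟩ := Set.mem_iUnion₂.1 (hcov.le (Set.mem_univ (ξ : X)))
      refine ⟨((hk₁ ξ ⟨U₀, hU₀⟩ hξ₀ k (hk1 _ (Finset.mem_univ _) _ (Finset.mem_univ _))).1).mono
        (Set.preimage_mono Set.inter_subset_left), ?_⟩
      rintro o o' ho ho' ⟨z, hzC, hzo⟩ ⟨z', hzC', hzo'⟩
      obtain ⟨U, hzU, hξU⟩ := hcharts z hzC
      obtain ⟨V, hzV, hξV⟩ := hcharts z' hzC'
      have hiU := hk₁ ξ U hξU k (hk1 _ (Finset.mem_univ _) _ (Finset.mem_univ _))
      have hiV := hk₁ ξ V hξV k (hk1 _ (Finset.mem_univ _) _ (Finset.mem_univ _))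
      obtain ⟨w, hwC, hwU, hwV⟩ := hk₂ ξ U V hξU hξV k
        (hk2 _ (Finset.mem_univ _) _ (Finset.mem_univ _) _ (Finset.mem_univ _))
      obtain ⟨y, hy, hyo, hyV⟩ := hiU.2 o (π ⁻¹' V.1.1) ho (V.1.1.2.preimage π.continuous)
        ⟨z, ⟨hzC, hzU⟩, hzo⟩ ⟨w, ⟨hwC, hwU⟩, hwV⟩
      obtain ⟨v, hv, hvo, hvo'⟩ := hiV.2 o o' ho ho' ⟨y, ⟨hy.1, hyV⟩, hyo⟩ ⟨z', ⟨hzC', hzV⟩, hzo'⟩
      exact ⟨v, hv.1, hvo, hvo'⟩
    · obtain ⟨ξ, hξ, hz⟩ := hScov (π z) fun h0 => hk0 (by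
        rw [← Scheme.Hom.comp_apply, pullback.condition, Scheme.Hom.comp_apply] at h0
        rw [Subsingleton.elim (α := PrimeSpectrum k)
          (pullback.snd f (Spec.map (CommRingCat.ofHom (algebraMap R k))) z) ⊥] at h0
        exact Ideal.mem_bot.1 h0)
      exact ⟨⟨ξ, hξ⟩, hz⟩
    · by_contra hne
      obtain ⟨z, hz1, hz2⟩ := hk₃ i j hne k (hk3 _ (Finset.mem_univ _) _ (Finset.mem_univ _))
      exact hz2 (hij hz1)
    · exact hk₄ i j k (hk4 _ (Finset.mem_univ _) _ (Finset.mem_univ _))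
  refine ⟨tot, htot, fun k _ _ hk => ?_⟩
  obtain ⟨D, hD, hDR⟩ := key k hk
  obtain ⟨D', hD', hDR'⟩ := key K ((map_ne_zero_iff _ (IsFractionRing.injective R K)).2 htot)
  exact ⟨hD.encard_irreducibleComponents.trans hD'.encard_irreducibleComponents.symm,
    (hD.card_connectedComponents Rel hDR).trans (hD'.card_connectedComponents Rel hDR').symm⟩

end Groth.Agent.H7Flat.GeomInt
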